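import Cfsg.Agent.H14.CBSpec

/-! # Tower CB (S1308): job S3 (`T'` acts on `P T` as `S` does). -/

set_option autoImplicit false
set_option maxHeartbeats 400000

namespace H15.CBS3

open Cfsg Subgroup H14 H98 H1.Gold H31.S2 H14.GC H14.FE H14.NF H14.CB
open scoped commutatorElement

universe u

theorem sq_comm {G : Type u} [Group G] {A : Subgroup G} (h : ∀ a ∈ A, a * a = 1) {a b : G}
    (ha : a ∈ A) (hb : b ∈ A) : a * b = b * a := by
  have e1 := h _ (mul_mem ha hb)
  calc a * b = a * (a * b * (a * b)) * b := by rw [e1, mul_one]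
    _ = (a * a) * (b * a) * (b * b) := by simp only [mul_assoc]
    _ = b * a := by rw [h a ha, h b hb, one_mul, mul_one]

theorem jobX : JS3.{u} := by
  intro act crd G _ _ Q E tg Q₁ T Q₂ T' P S sp ln ln' sec cS
  have elE : ∀ a ∈ E, a * a = 1 := tg.el
  have elS : ∀ a ∈ S, a * a = 1 := sec.el
  have elT : ∀ a ∈ T, a * a = 1 := by
    obtain ⟨g, -, rfl⟩ := sp.c1.p2
    rintro _ ⟨a, ha, rfl⟩
    rw [← map_mul, elE a ha, map_one]
  have cT' : Nat.card T' = Nat.card E := by
    obtain ⟨g, -, rfl⟩ := sp.c2.p2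
    exact card_cj g E
  have cE : ∀ {x e : G}, x ∈ cen E → e ∈ E → e * x = x * e := fun hx he =>
    mem_centralizer_iff.1 hx _ he
  have PE : P ≤ cen E := ln.pg.le.trans inf_le_right
  have EC : E ≤ cen (P ⊔ T) := le_centralizer_iff.1 (sup_le PE sp.c1.comm)
  have fw : ∀ a ∈ T', ∃ c ∈ S, a * c ∈ cen (P ⊔ T) := by
    intro a ha
    obtain ⟨y, hy, e⟩ := act G Q E tg Q₁ T P ln a (sp.c2.comm ha) fun t ht => sp.cm t ht a ha
    obtain ⟨t', ht', hc⟩ := sec.cov2 y hy
    refine ⟨_, hc, ?_⟩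
    have c1 : ∀ t ∈ T, t * (a * (t' * y)) = a * (t' * y) * t := by
      intro t ht
      have m := sp.cm t ht a ha
      have e1 : t * a = ⁅t, a⁆ * a * t := by rw [commutatorElement_def]; group
      have e2 : t * y = ⁅t, a⁆ * y * t := by rw [e t ht, commutatorElement_def]; group
      generalize ⁅t, a⁆ = r at m e1 e2
      calc t * (a * (t' * y)) = r * a * (t * t') * y := by rw [← mul_assoc, e1]; group
        _ = r * a * t' * (t * y) := by rw [sq_comm elT ht ht']; group
        _ = r * a * (t' * r) * y * t := by rw [e2]; group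
        _ = r * (a * r) * t' * y * t := by rw [← cE (sp.c1.comm ht') m]; group
        _ = r * r * a * t' * y * t := by rw [← cE (sp.c2.comm ha) m]; group
        _ = a * (t' * y) * t := by rw [elE r m]; group
    have c2 : ∀ s ∈ S, s * (a * (t' * y)) = a * (t' * y) * s := by
      intro s hs
      rw [← mul_assoc, mem_centralizer_iff.1 (cS ha) s hs, mul_assoc, sq_comm elS hs hc, mul_assoc]
      simp only [mul_assoc]
    have : P ⊔ T ≤ centralizer ({a * (t' * y)} : Set G) := by
      refine sup_le (fun z hz => ?_) fun t ht => mem_centralizer_singleton_iff.2 (c1 t ht)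
      obtain ⟨t, ht, hs⟩ := sec.cov2 z hz
      have := mul_mem (inv_mem (mem_centralizer_singleton_iff.2 (c1 t ht)))
        (mem_centralizer_singleton_iff.2 (c2 _ hs))
      rwa [inv_mul_cancel_left] at this
    exact mem_centralizer_iff.2 fun z hz => mem_centralizer_singleton_iff.1 (this hz)
  refine ⟨cS, fw, fun c hc => ?_⟩
  choose f fS fC using fun a : T' => fw a a.2
  let F : T' → S ⧸ E.subgroupOf S := fun a => QuotientGroup.mk ⟨f a, fS a⟩
  have inj : Function.Injective F := by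
    intro a a' e
    have m : (f a)⁻¹ * f a' ∈ E := (QuotientGroup.eq (s := E.subgroupOf S)).1 e
    have m1 := mul_mem (mul_mem (inv_mem (fC a)) (fC a')) (inv_mem (EC m))
    have d : (a : G)⁻¹ * a' ∈ T' := mul_mem (inv_mem a.2) a'.2
    have e1 : ((a : G) * f a)⁻¹ * (a' * f a') * ((f a)⁻¹ * f a')⁻¹ = (a : G)⁻¹ * a' := by
      calc ((a : G) * f a)⁻¹ * (a' * f a') * ((f a)⁻¹ * f a')⁻¹
          = (f a)⁻¹ * ((a : G)⁻¹ * a' * f a) := by group
        _ = (a : G)⁻¹ * a' := by rw [← mem_centralizer_iff.1 (cS d) _ (fS a)]; group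
    rw [e1] at m1
    obtain ⟨y, hy, yE⟩ := SetLike.exists_of_lt ln'.pg.lt
    by_contra hne
    refine ln'.pg.nd y hy yE _ d (fun e2 => hne (Subtype.ext (inv_mul_eq_one.1 e2))) ?_
    rw [commutatorElement_eq_one_iff_mul_comm]
    exact (mem_centralizer_iff.1 m1 y (mem_sup_left hy)).symm
  have cq : Nat.card (S ⧸ E.subgroupOf S) ≤ Nat.card T' := by
    have h1 := (crd G Q E tg Q₁ T P S ln sec).1
    rw [card_eq_card_quotient_mul_card_subgroup (E.subgroupOf S),
      Nat.card_congr (subgroupOfEquivOfLe sec.lE).toEquiv] at h1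
    rw [cT']
    exact Nat.le_of_mul_le_mul_right h1 Nat.card_pos
  obtain ⟨a, e⟩ := (inj.bijective_of_nat_card_le cq).2 (QuotientGroup.mk ⟨c, hc⟩)
  have m : (f a)⁻¹ * c ∈ E := (QuotientGroup.eq (s := E.subgroupOf S)).1 e
  refine ⟨a, a.2, ?_⟩
  have := mul_mem (fC a) (EC m)
  rwa [mul_assoc, mul_inv_cancel_left] at this

end H15.CBS3
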