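import Cfsg.Agent.H63.A8Def
import Cfsg.Agent.H67.SAInd
import Cfsg.Agent.H18.SANQ

/-! A8S, item PL: one of the planes `Er`, `Ec` has a normaliser that moves `t`. -/

set_option autoImplicit false
set_option maxHeartbeats 400000
set_option linter.unusedSectionVars false

namespace H15.A8

open H64.SG (O2 Syl Cz Cs Ns cjs Is2 Inv2)
open H67.SA H63.A8 Subgroup

universe u

variable {n : ℕ} {F : Type} [Field F] [Finite F] [CharP F 2] {G : Type u} [Group G] [Finite G]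
  {e : SLn n F →* G} {t g : G}

/-- `A ⟨t⟩` -/
abbrev DD (e : SLn n F →* G) (t : G) (A : Subgroup (SLn n F)) : Subgroup G :=
  A.map e ⊔ zpowers t

theorem mem_DD (h : B1 e t) {A : Subgroup (SLn n F)} {y : G} :
    y ∈ DD e t A ↔ ∃ a ∈ A, y = e a ∨ y = t * e a := by
  have ht : t * t = 1 := h.inv.1
  constructor
  · intro hy
    let S : Subgroup G :=
      { carrier := {y | ∃ a ∈ A, y = e a ∨ y = t * e a}
        one_mem' := ⟨1, A.one_mem, Or.inl (map_one e).symm⟩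
        mul_mem' := by
          rintro _ _ ⟨a, ha, rfl | rfl⟩ ⟨b, hb, rfl | rfl⟩ <;> refine ⟨a * b, A.mul_mem ha hb, ?_⟩
          · left; rw [map_mul]
          · right; rw [map_mul, ← mul_assoc, ← h.comm, mul_assoc]
          · right; rw [map_mul, mul_assoc]
          · left
            rw [map_mul, mul_assoc, ← mul_assoc (e a), ← h.comm, ← mul_assoc, ← mul_assoc, ht,
              one_mul]
        inv_mem' := by
          rintro _ ⟨a, ha, rfl | rfl⟩ <;> refine ⟨a⁻¹, A.inv_mem ha, ?_⟩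
          · left; rw [map_inv]
          · right; rw [mul_inv_rev, h.inv_eq, ← map_inv, h.comm] }
    have : DD e t A ≤ S := sup_le (by rintro _ ⟨a, ha, rfl⟩; exact ⟨a, ha, Or.inl rfl⟩)
      (zpowers_le.2 ⟨1, A.one_mem, Or.inr (by simp)⟩)
    exact this hy
  · rintro ⟨a, ha, rfl | rfl⟩
    · exact mem_sup_left ⟨a, ha, rfl⟩
    · exact mul_mem (mem_sup_right (mem_zpowers t)) (mem_sup_left ⟨a, ha, rfl⟩)

theorem e_mem_DD {A : Subgroup (SLn n F)} {a : SLn n F} (ha : a ∈ A) : e a ∈ DD e t A :=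
  mem_sup_left ⟨a, ha, rfl⟩

theorem t_mem_DD {A : Subgroup (SLn n F)} : t ∈ DD e t A := mem_sup_right (mem_zpowers t)

/-- `g` maps `e a` to `e u` modulo `t`. -/
def R (e : SLn n F →* G) (t g : G) (a u : SLn n F) : Prop :=
  g * e a * g⁻¹ = e u ∨ g * e a * g⁻¹ = t * e u

theorem R.one : R e t g 1 1 := Or.inl (by simp)

theorem R.mul (h : B1 e t) {a b u v : SLn n F} (h1 : R e t g a u) (h2 : R e t g b v) :
    R e t g (a * b) (u * v) := by
  have ht : t * t = 1 := h.inv.1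
  have k : g * e (a * b) * g⁻¹ = (g * e a * g⁻¹) * (g * e b * g⁻¹) := by rw [map_mul]; group
  unfold R
  rw [k, map_mul]
  rcases h1 with h1 | h1 <;> rcases h2 with h2 | h2 <;> rw [h1, h2]
  · left; rfl
  · right; rw [← mul_assoc, ← h.comm, mul_assoc]
  · right; rw [mul_assoc]
  · left; rw [mul_assoc, ← mul_assoc (e u), ← h.comm, ← mul_assoc, ← mul_assoc, ht, one_mul]

theorem R.inv (h : B1 e t) {a u : SLn n F} (h1 : R e t g a u) : R e t g a⁻¹ u⁻¹ := by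
  have k : g * e a⁻¹ * g⁻¹ = (g * e a * g⁻¹)⁻¹ := by rw [map_inv]; group
  unfold R
  rw [k]
  rcases h1 with h1 | h1 <;> rw [h1]
  · left; rw [map_inv]
  · right; rw [mul_inv_rev, h.inv_eq, ← map_inv, h.comm]

/-- The image of `A` under `R`. -/
def St' (h : B1 e t) (g : G) (A : Subgroup (SLn n F)) : Subgroup (SLn n F) where
  carrier := {u | ∃ a ∈ A, R e t g a u}
  one_mem' := ⟨1, A.one_mem, R.one⟩
  mul_mem' := by
    rintro u v ⟨a, ha, h1⟩ ⟨b, hb, h2⟩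
    exact ⟨a * b, A.mul_mem ha hb, h1.mul h h2⟩
  inv_mem' := by
    rintro u ⟨a, ha, h1⟩
    exact ⟨a⁻¹, A.inv_mem ha, h1.inv h⟩

theorem mem_St' {h : B1 e t} {A : Subgroup (SLn n F)} {u : SLn n F} :
    u ∈ St' h g A ↔ ∃ a ∈ A, R e t g a u := Iff.rfl

/-- The setting. -/
structure Set0 (e : SLn n F →* G) (t g : G) (z : SLn n F) : Prop where
  b1 : B1 e t
  inj : Function.Injective e
  nt : t ∉ e.range
  ng : g ∈ Ns (DD e t (UU n F))
  zU : z ∈ UU n F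
  zz : z * z = 1
  gt : g * t * g⁻¹ = t * e z
  gz : g * e z * g⁻¹ = e z

variable {z : SLn n F}

theorem Set0.git (s : Set0 e t g z) : g⁻¹ * t * g = t * e z := by
  have : g * (t * e z) * g⁻¹ = t := by
    calc g * (t * e z) * g⁻¹ = (g * t * g⁻¹) * (g * e z * g⁻¹) := by group
      _ = t := by rw [s.gt, s.gz, mul_assoc, ← map_mul, s.zz, map_one, mul_one]
  nth_rw 1 [← this]
  group

theorem Set0.rz (s : Set0 e t g z) : R e t g z z := Or.inl s.gz

theorem Set0.r1 (s : Set0 e t g z) {u : SLn n F} (h : R e t g 1 u) : u = 1 := by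
  rcases h with h | h
  · apply s.inj; rw [← h]; simp
  · exfalso
    refine s.nt ⟨u⁻¹, ?_⟩
    rw [map_inv]
    exact inv_eq_of_mul_eq_one_left (by rw [← h]; simp)

theorem Set0.r1' (s : Set0 e t g z) {a : SLn n F} (h : R e t g a 1) : a = 1 := by
  rcases h with h | h
  · apply s.inj
    rw [map_one] at h ⊢
    simpa [mul_inv_eq_one, mul_eq_left] using h
  · exfalso
    rw [map_one, mul_one] at h
    refine s.nt ⟨a * z⁻¹, ?_⟩
    have : e a = t * e z := by rw [← s.git, ← h]; group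
    rw [map_mul, this, map_inv]; group

theorem Set0.fn (s : Set0 e t g z) {a u v : SLn n F} (h1 : R e t g a u) (h2 : R e t g a v) :
    u = v := by
  have := h1.mul s.b1 (h2.inv s.b1)
  rw [mul_inv_cancel] at this
  exact mul_inv_eq_one.1 (s.r1 this)

theorem Set0.ij (s : Set0 e t g z) {a b u : SLn n F} (h1 : R e t g a u) (h2 : R e t g b u) :
    a = b := by
  have := h1.mul s.b1 (h2.inv s.b1)
  rw [mul_inv_cancel] at this
  exact mul_inv_eq_one.1 (s.r1' this)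

theorem Set0.tot (s : Set0 e t g z) {a : SLn n F} (ha : a ∈ UU n F) :
    ∃ u ∈ UU n F, R e t g a u :=
  (mem_DD s.b1).1 ((mem_normalizer_iff.1 s.ng _).1 (e_mem_DD ha))

theorem Set0.onto (s : Set0 e t g z) {u : SLn n F} (hu : u ∈ UU n F) :
    ∃ a ∈ UU n F, R e t g a u := by
  obtain ⟨a, ha, h | h⟩ := (mem_DD s.b1).1
    ((mem_normalizer_iff.1 (inv_mem s.ng) _).1 (e_mem_DD hu))
  · exact ⟨a, ha, Or.inl (by rw [← h]; group)⟩
  · refine ⟨z * a, mul_mem s.zU ha, Or.inr ?_⟩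
    have h1 : e a = t * (g⁻¹ * e u * g) := by
      rw [inv_inv] at h
      rw [h, ← mul_assoc, s.b1.inv.1, one_mul]
    calc g * e (z * a) * g⁻¹ = (g * e z * g⁻¹) * (g * t * g⁻¹) * e u := by
          rw [map_mul, h1]; group
      _ = t * e u := by
          rw [s.gz, s.gt, ← mul_assoc, ← s.b1.comm, mul_assoc t, ← map_mul, s.zz, map_one, mul_one]

theorem Set0.le_UU (s : Set0 e t g z) {A : Subgroup (SLn n F)} (hA : A ≤ UU n F) :
    St' s.b1 g A ≤ UU n F := by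
  rintro u ⟨a, ha, h⟩
  obtain ⟨v, hv, h'⟩ := s.tot (hA ha)
  rwa [s.fn h h']

theorem Set0.card_le (s : Set0 e t g z) {A : Subgroup (SLn n F)} (hA : A ≤ UU n F) :
    Nat.card A ≤ Nat.card (St' s.b1 g A) := by
  choose f hf using fun a : A => s.tot (hA a.2)
  refine Nat.card_le_card_of_injective (fun a : A => (⟨f a, a, a.2, (hf a).2⟩ : St' s.b1 g A)) ?_
  intro a b hab
  have : f a = f b := congrArg Subtype.val hab
  exact Subtype.ext (s.ij (hf a).2 (this ▸ (hf b).2))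

theorem Set0.ns (s : Set0 e t g z) {A : Subgroup (SLn n F)} (hA : UU n F ≤ Ns A) :
    UU n F ≤ Ns (St' s.b1 g A) := by
  intro w hw
  obtain ⟨w0, hw0, hr⟩ := s.onto hw
  refine H98.mem_normalizer_of_cj_le ?_
  rintro _ ⟨u, ⟨a, ha, h⟩, rfl⟩
  exact ⟨w0 * a * w0⁻¹, (mem_normalizer_iff.1 (hA hw0) a).1 ha,
    (hr.mul s.b1 h).mul s.b1 (hr.inv s.b1)⟩

theorem Set0.sq (s : Set0 e t g z) {A : Subgroup (SLn n F)} (hA : ∀ a ∈ A, a * a = 1) :
    ∀ u ∈ St' s.b1 g A, u * u = 1 := by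
  rintro u ⟨a, ha, h⟩
  have := h.mul s.b1 h
  rw [hA a ha] at this
  exact s.r1 this

theorem Set0.mv (s : Set0 e t g z) {A : Subgroup (SLn n F)} (hA : A ≤ UU n F) (hz : z ∈ A)
    {p : SLn n F} (hp : p ∈ Ns A) (hpz : p * z * p⁻¹ ≠ z) :
    ∃ y ∈ Ns (DD e t (St' s.b1 g A)), y * t * y⁻¹ ≠ t := by
  have k1 : ∀ w ∈ DD e t (St' s.b1 g A), g⁻¹ * w * g ∈ DD e t A := by
    intro w hw
    have ht : g⁻¹ * t * g ∈ DD e t A := by rw [s.git]; exact mul_mem t_mem_DD (e_mem_DD hz)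
    have hu : ∀ u ∈ St' s.b1 g A, g⁻¹ * e u * g ∈ DD e t A := by
      rintro u ⟨a, ha, h | h⟩
      · rw [← h, show g⁻¹ * (g * e a * g⁻¹) * g = e a by group]; exact e_mem_DD ha
      · have : g⁻¹ * e u * g = (g⁻¹ * t * g)⁻¹ * e a := by
          rw [show e a = g⁻¹ * (t * e u) * g by rw [← h]; group]; group
        rw [this]; exact mul_mem (inv_mem ht) (e_mem_DD ha)
    obtain ⟨u, hu', rfl | rfl⟩ := (mem_DD s.b1).1 hw
    · exact hu u hu'
    · rw [show g⁻¹ * (t * e u) * g = (g⁻¹ * t * g) * (g⁻¹ * e u * g) by group]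
      exact mul_mem ht (hu u hu')
  have k2 : ∀ w ∈ DD e t A, g * w * g⁻¹ ∈ DD e t (St' s.b1 g A) := by
    intro w hw
    have ht : g * t * g⁻¹ ∈ DD e t (St' s.b1 g A) := by
      rw [s.gt]; exact mul_mem t_mem_DD (e_mem_DD ⟨z, hz, s.rz⟩)
    have hu : ∀ a ∈ A, g * e a * g⁻¹ ∈ DD e t (St' s.b1 g A) := by
      intro a ha
      obtain ⟨u, -, h⟩ := s.tot (hA ha)
      exact (mem_DD s.b1).2 ⟨u, ⟨a, ha, h⟩, h⟩
    obtain ⟨a, ha, rfl | rfl⟩ := (mem_DD s.b1).1 hw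
    · exact hu a ha
    · rw [show g * (t * e a) * g⁻¹ = (g * t * g⁻¹) * (g * e a * g⁻¹) by group]
      exact mul_mem ht (hu a ha)
  have k3 : ∀ w ∈ DD e t A, e p * w * (e p)⁻¹ ∈ DD e t A := by
    intro w hw
    have hu : ∀ a ∈ A, e p * e a * (e p)⁻¹ ∈ DD e t A := fun a ha => by
      rw [← map_inv, ← map_mul, ← map_mul]
      exact e_mem_DD ((mem_normalizer_iff.1 hp a).1 ha)
    obtain ⟨a, ha, rfl | rfl⟩ := (mem_DD s.b1).1 hw
    · exact hu a ha
    · rw [show e p * (t * e a) * (e p)⁻¹ = (e p * t * (e p)⁻¹) * (e p * e a * (e p)⁻¹) by group,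
        s.b1.conj_t]
      exact mul_mem t_mem_DD (hu a ha)
  refine ⟨g * e p * g⁻¹, H98.mem_normalizer_of_cj_le ?_, fun h => hpz (s.inj ?_)⟩
  · rintro _ ⟨w, hw, rfl⟩
    have := k2 _ (k3 _ (k1 w hw))
    rwa [show g * (e p * (g⁻¹ * w * g) * (e p)⁻¹) * g⁻¹ =
      (g * e p * g⁻¹) * w * (g * e p * g⁻¹)⁻¹ by group] at this
  · have h1 : e p * (g⁻¹ * t * g) * (e p)⁻¹ = g⁻¹ * t * g := by
      nth_rw 2 [← h]; group
    rw [s.git, show e p * (t * e z) * (e p)⁻¹ = (e p * t * (e p)⁻¹) * (e p * e z * (e p)⁻¹) by group,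
      s.b1.conj_t, mul_left_cancel_iff] at h1
    rw [map_mul, map_mul, map_inv, h1]

theorem zz_cases (hp : Par8 n F) {a : SLn n F} (ha : a ∈ ZZ n F) : a = 1 ∨ a = x 0 (la n) 1 := by
  obtain ⟨c, rfl⟩ := mem_ZZ.1 ha
  rcases hp.fld c with rfl | rfl
  · left; simp
  · right; rfl

theorem zero_ne_la (hp : Par8 n F) : (0 : Fin (n + 1)) ≠ la n := by
  have := hp.three
  rw [Ne, Fin.ext_iff]; simp; omega

theorem set0 (hp : Par8 n F) (A : FA n F) (Q : FQ n F) (h : CH e t) :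
    ∃ g, Set0 e t g (x 0 (la n) 1) := by
  obtain ⟨g, hg, c, hc, hgt⟩ := h.mv
  obtain rfl : c = 1 := (hp.fld c).resolve_left hc
  have inj : Function.Injective e := by
    rw [← MonoidHom.ker_eq_bot_iff, eq_bot_iff, ← Q.cen]; exact h.ker
  have nt : t ∉ e.range := h.toB1.not_mem hp.two_le
  have zZ : x 0 (la n) (1 : F) ∈ ZZ n F := x_mem_ZZ 1
  have zU : x 0 (la n) (1 : F) ∈ UU n F := ZZ_le_UU zZ
  refine ⟨g, h.toB1, inj, nt, hg, zU, x_mul_self _ _ _, hgt, ?_⟩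
  set z : SLn n F := x 0 (la n) 1 with hz
  have cz : ∀ w ∈ DD e t (UU n F), e z * w = w * e z := by
    intro w hw
    have hu : ∀ a ∈ UU n F, e z * e a = e a * e z := fun a ha => by
      rw [← map_mul, ← map_mul, UU_le_Cs ha z zZ]
    obtain ⟨a, ha, rfl | rfl⟩ := (mem_DD h.toB1).1 hw
    · exact hu a ha
    · rw [← mul_assoc, ← h.toB1.comm, mul_assoc, hu a ha, mul_assoc]
  have cg : ∀ u ∈ UU n F, (g * e z * g⁻¹) * e u = e u * (g * e z * g⁻¹) := by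
    intro u hu
    have h1 := cz _ ((mem_normalizer_iff.1 (inv_mem hg) _).1 (e_mem_DD (t := t) hu))
    rw [inv_inv] at h1
    calc (g * e z * g⁻¹) * e u = g * (e z * (g⁻¹ * e u * g)) * g⁻¹ := by group
      _ = e u * (g * e z * g⁻¹) := by rw [h1]; group
  have key : ∀ z', (∀ u ∈ UU n F, e z' * e u = e u * e z') → z' = 1 ∨ z' = z := by
    intro z' hz'
    obtain ⟨ζ, hζ, hc⟩ := mem_cI.1 (A.ctQ (MulAut.conj z') fun u hu => by
      have := hz' u (QQ_le_UU hu)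
      rw [← map_mul, ← map_mul] at this
      rw [MulAut.conj_apply, inj this, mul_inv_cancel_right])
    have h1 : z' * ζ⁻¹ ∈ center (SLn n F) := conj_eq_one.1 (by rw [map_mul, hc, map_inv]; simp)
    rw [Q.cen, mem_bot, mul_inv_eq_one] at h1
    exact zz_cases hp (h1 ▸ hζ)
  obtain ⟨z', -, h1 | h1⟩ := (mem_DD h.toB1).1 ((mem_normalizer_iff.1 hg _).1 (e_mem_DD zU))
  · rcases key z' (fun u hu => h1 ▸ cg u hu) with rfl | rfl
    · exfalso
      rw [map_one] at h1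
      have h2 : e z = e 1 := by simpa [mul_inv_eq_one, mul_eq_left] using h1
      exact one_ne_zero ((x_eq_one (zero_ne_la hp)).1 (inj h2))
    · exact h1
  · exfalso
    rcases key z' (fun u hu => by
      have := cg u hu
      rw [h1, ← mul_assoc, ← h.toB1.comm, mul_assoc, mul_assoc, mul_left_cancel_iff] at this
      exact this) with rfl | rfl
    · rw [map_one, mul_one] at h1
      exact h.nr z (root_x hp.two_le (zero_ne_la hp) one_ne_zero) (isConj_iff.2 ⟨g, h1⟩).symm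
    · rw [← hgt, mul_left_inj, mul_right_inj] at h1
      exact nt ⟨_, h1⟩

theorem exists_p (hp : Par8 n F) {E P : Subgroup (SLn n F)} (hE : Nat.card E = Nat.card F ^ n)
    (hz : ZZ n F ≤ E) (hP : P ≤ Ns E)
    (tr : ∀ v ∈ E, ∀ w ∈ E, v ≠ 1 → w ≠ 1 → ∃ p ∈ P, p * v * p⁻¹ = w) :
    ∃ p ∈ Ns E, p * x 0 (la n) 1 * p⁻¹ ≠ x 0 (la n) 1 := by
  have : ¬ E ≤ ZZ n F := fun h => by
    have h1 := card_le_of_le h
    rw [hE, card_ZZ (by have := hp.three; omega), hp.two, hp.three] at h1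
    omega
  obtain ⟨v, hv, hv'⟩ := SetLike.not_le_iff_exists.1 this
  obtain ⟨p, hp1, hp2⟩ := tr _ (hz (x_mem_ZZ 1)) v hv
    (fun h => one_ne_zero ((x_eq_one (zero_ne_la hp)).1 h)) (fun h => hv' (h ▸ one_mem _))
  exact ⟨p, hP hp1, fun h => hv' (by rw [← hp2, h]; exact x_mem_ZZ 1)⟩

theorem exists_mv (hp : Par8 n F) (A : FA n F) (C : FC8 n F) (P : FP n F) (Q : FQ n F)
    (h : CH e t) : (∃ y ∈ Ns (DD e t (Er n F)), y * t * y⁻¹ ≠ t) ∨
      ∃ y ∈ Ns (DD e t (Ec n F)), y * t * y⁻¹ ≠ t := by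
  obtain ⟨g, s⟩ := set0 hp A Q h
  have rz : ∀ a ∈ ZZ n F, ∀ u, R e t g a u → u ∈ ZZ n F := by
    intro a ha u hu
    rcases zz_cases hp ha with rfl | rfl
    · rw [s.r1 hu]; exact one_mem _
    · rw [s.fn hu s.rz]; exact x_mem_ZZ 1
  have hQ : St' s.b1 g (QQ n F) = QQ n F := by
    refine Q.qq _ ((s.le_UU QQ_le_UU).trans UU_le_Cs) (isP_UU.to_le (s.le_UU QQ_le_UU)) ?_ ?_
    · refine le_trans ?_ (s.card_le QQ_le_UU)
      rw [card_QQ (by have := hp.three; omega), hp.two, hp.three]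
      norm_num
    · rintro a ⟨a0, ha, h1⟩ b ⟨b0, hb, h2⟩
      exact rz _ (H18.SA.cm_QQ ha hb) _
        (((h1.mul s.b1 h2).mul s.b1 (h1.inv s.b1)).mul s.b1 (h2.inv s.b1))
  have mono : ∀ E ≤ QQ n F, St' s.b1 g E ≤ QQ n F := by
    rintro E hE u ⟨a, ha, h1⟩
    rw [← hQ]; exact ⟨a, hE ha, h1⟩
  have rU := (Er_le_QQ (n := n) (F := F)).trans QQ_le_UU
  have cU := (Ec_le_QQ (n := n) (F := F)).trans QQ_le_UU
  obtain ⟨p, hp1, hp2⟩ := exists_p hp card_Er ZZ_le_Er Pr_le_Ns C.trr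
  obtain ⟨q, hq1, hq2⟩ := exists_p hp card_Ec ZZ_le_Ec Pc_le_Ns C.trc
  have mr := s.mv rU (ZZ_le_Er (x_mem_ZZ 1)) hp1 hp2
  have mc := s.mv cU (ZZ_le_Ec (x_mem_ZZ 1)) hq1 hq2
  have c8 : 8 = Nat.card F ^ n := by rw [hp.two, hp.three]; norm_num
  rcases P.pl _ (mono _ Er_le_QQ) _ (mono _ Ec_le_QQ) (s.sq fun _ => sq_Row) (s.sq fun _ => sq_Col)
    (c8.trans_le (card_Er.ge.trans (s.card_le rU))) (c8.trans_le (card_Ec.ge.trans (s.card_le cU)))
    (s.ns (UU_le_P00.trans (P00_le_Pr.trans Pr_le_Ns)))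
    (s.ns (UU_le_P00.trans (P00_le_Pc.trans Pc_le_Ns))) (by
      rintro u ⟨⟨a, ha, h1⟩, ⟨b, hb, h2⟩⟩
      obtain rfl := s.ij h1 h2
      exact rz a (Er_inf_Ec.le ⟨ha, hb⟩) u h1) with h1 | h1 | h1 | h1
  · left; rwa [h1] at mr
  · right; rwa [h1] at mr
  · left; rwa [h1] at mc
  · right; rwa [h1] at mc

theorem jobPL (A : J8FA) (B : J8FB) (C : J8FC) (P : J8FP) (Q : J8FQ) : J8PL.{u} := by
  intro n F _ _ _ hp G _ _ e t h
  rcases exists_mv hp (A n F hp) (C n F hp) (P n F hp) (Q n F hp) h with h1 | h1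
  · have : tw e 1 = e := MonoidHom.ext fun _ => rfl
    refine ⟨1, ?_⟩
    rw [this]
    exact ⟨h, id, h1⟩
  · have gz : ∀ c : F, gam n F (x 0 (la n) c) = x 0 (la n) c := fun c => by simp [gam_x]
    refine ⟨gam n F, ⟨h.toB1.twe _, ?_, h.nr.twe fun a ha => (B n F hp).roota a _ ha, ?_⟩, ?_, ?_⟩
    · rw [range_twe]; exact h.ck
    · obtain ⟨g, hg, c, hc, hgt⟩ := h.mv
      exact ⟨g, by rwa [map_twe_of_St gam_UU], c, hc, by rwa [twe_apply, gz]⟩
    · intro hcp c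
      obtain ⟨w, hw, hw'⟩ := hcp c
      rw [map_twe_of_St gam_P00] at hw
      rw [twe_apply, gz] at hw'
      exact ⟨w, hw, hw'⟩
    · unfold MvR
      rwa [map_twe_of_Sw gam_Er]

end H15.A8
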