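import Cfsg.Agent.H15.BGFin2
import Cfsg.Agent.H15.BGKit
import Cfsg.Agent.H14.Quasi
import Cfsg.Agent.H18.Misc2
import Cfsg.Agent.H31.JFus3
import Cfsg.Agent.S1306

/-! BGS: S3314, given the slots. -/

set_option autoImplicit false
set_option linter.unusedSectionVars false
set_option maxHeartbeats 400000

namespace H15.BG

open Cfsg Subgroup H98 H1.Gold H85.TW

universe u

variable {G : Type u} [Group G] [Finite G] {A X H E P U : Subgroup G} {t : G} {n : ℕ}

theorem quot_center_map {X Y : Type*} [Group X] [Group Y] (hX : IsQuasisimple X) (f : X →* Y)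
    (hf : Function.Surjective f) [Nontrivial Y] : Nonempty (X ⧸ center X ≃* Y ⧸ center Y) := by
  have s : Function.Surjective ((QuotientGroup.mk' (center Y)).comp f) :=
    (QuotientGroup.mk'_surjective _).comp hf
  have e : center X = ((QuotientGroup.mk' (center Y)).comp f).ker := by
    refine le_antisymm (fun x hx => (QuotientGroup.eq_one_iff _).2 (H14.center_map_le f hf ⟨x, hx, rfl⟩))
      ((H14.quasi_normal hX _).resolve_left fun e => H14.quasi_center_ne_top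
        (H14.quasi_of_surjective hX f hf) (top_unique fun y _ => ?_))
    obtain ⟨x, rfl⟩ := hf y
    exact (QuotientGroup.eq_one_iff _).1 (e.ge (mem_top x))
  exact ⟨(QuotientGroup.quotientMulEquivOfEq e).trans (QuotientGroup.quotientKerEquivOfSurjective _ s)⟩

theorem EH.t1 (h : EH E A t n) : t ≠ 1 := fun e => by
  have := h.ord
  rw [e, orderOf_one] at this
  exact absurd this (by norm_num)

theorem EH.Ec (h : EH E A t n) : cen1 t ≤ cen E := fun y hy e he => by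
  by_cases c : e = 1
  · simp [c]
  · exact (mem_cen1.1 ((h.cE e he c).ge hy)).symm

theorem EH.le_E (h : EH E A t n) (a : P ≤ cen A ⊓ cen1 t) (p : IsPGroup 2 P) : P ≤ E :=
  fun y hy => h.c2 y (a hy).1 (a hy).2 (e2_of_mem p hy)

/-- `E` is a Sylow subgroup of `C(A)`. -/
theorem EH.syl (h : EH E A t n) : IsSyl 2 E (cen A) := by
  obtain ⟨S, hS, le⟩ := exists_isSyl_le (two_of_sq h.el) h.EA
  obtain ⟨z, hz, z1, zz, c⟩ := ex_cen_inv hS.isPGroup le_rfl le_normalizer fun e => h.t1 (mem_bot.1 (e.le (le h.tE)))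
  have zE := h.c2 z (hS.le hz) (mem_cen1.2 (mem_cen1.1 (c (le h.tE))).symm) ⟨1, by rw [pow_one, pow_two, zz]⟩
  exact le_antisymm (h.le_E (le_inf hS.le (h.cE z zE z1 ▸ c)) hS.isPGroup) le ▸ hS

theorem EH.comp (h : EH E A t n) (hq : IsQuasisimple A) {g : G} (hg : g ∈ nor A) :
    A ≤ cen1 (g * t * g⁻¹) ∧ IsComponent (A.subgroupOf (cen1 (g * t * g⁻¹))) := by
  have a : A ≤ cen1 (g * t * g⁻¹) := by rw [← cj_cen1, ← cj_eq_self hg]; exact cj_mono g h.le
  refine ⟨a, Normal.isSubnormal ((normal_subgroupOf_iff_le_normalizer a).2 ?_),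
    H14.quasi_of_mulEquiv hq (subgroupOfEquivOfLe a).symm⟩
  rw [← cj_cen1]
  exact cj_le_of_le_of_mem h.nrm hg

theorem EH.standard (J : Jobs0.{u}) (h : EH E A t n) (hq : IsQuasisimple A) : IsStandardSubgroup A := by
  have c := h.comp hq (one_mem _)
  rw [one_mul, inv_one, mul_one] at c
  refine Cfsg.Agent.S1306.result t h.ord A h.le c.2 (fun y hy yA => ?_) fun g hg e => ?_
  · obtain ⟨g, gA, b⟩ := h.syl.exists_cj_le (two_zpowers (x := y) (by rw [← pow_two, ← hy, pow_orderOf_eq_one]))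
      (zpowers_le.2 yA)
    have m := b (conj_mem_cj (mem_zpowers y))
    have e : cen1 y = cen1 (g⁻¹ * t * g⁻¹⁻¹) := by
      rw [← cj_cen1, ← h.cE _ m fun e => by simp [conj_eq_one_iff.1 e] at hy, ← cj_cen1, cj_inv_cj]
    have := h.comp hq (inv_mem (centralizer_le_normalizer _ gA))
    rwa [← e] at this
  · obtain ⟨U, a, p, x, hx, y, hy, b⟩ := h.toUA.nonab J
    obtain ⟨c, -, f⟩ := h.syl.exists_cj_le (Q := cj g U) (p.map _) ((cj_mono g a).trans
      (le_centralizer_iff.1 (commutator_eq_bot_iff_le_centralizer.1 e)))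
    have := comm_of_sq h.el (f (conj_mem_cj (conj_mem_cj hx))) (f (conj_mem_cj (conj_mem_cj hy)))
    rw [conj_mul, conj_mul, conj_mul, conj_mul] at this
    exact b (by simpa using this)

theorem EH.sub (h : EH E A t n) (hA : A ≤ H) (hE : E ≤ H) :
    EH (E.subgroupOf H) (A.subgroupOf H) (⟨t, hE h.tE⟩ : H) n :=
  have c1 : ∀ x y : H, y ∈ cen1 x ↔ (y : G) ∈ cen1 (x : G) := fun x y => by
    rw [mem_cen1, mem_cen1, Subtype.ext_iff]; rfl
  have c2 : ∀ y : H, y ∈ cen (A.subgroupOf H) ↔ (y : G) ∈ cen A := fun y =>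
    ⟨fun a x hx => congrArg Subtype.val (a ⟨x, hA hx⟩ hx), fun a x hx => Subtype.ext (a x hx)⟩
  { h.toUA.sub hA (hE h.tE) with
    tE := h.tE, el := fun e he => Subtype.ext (h.el e he)
    cE := fun e he e1 => Subgroup.ext fun y => by
      rw [c1, c1, h.cE e he fun c => e1 (Subtype.ext c)]
    EA := fun e he => (c2 e).2 (h.EA he)
    dj := fun e a b => Subtype.ext (h.dj e a b)
    cA := fun y a b => let ⟨e, he, z, hz, f, g⟩ := h.cA y ((c2 y).1 a) ((c1 _ y).1 b)
      ⟨⟨e, hE he⟩, he, ⟨z, hA hz⟩, hz, (c2 _).2 f, Subtype.ext g⟩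
    c2 := fun y a b ⟨i, hi⟩ => h.c2 y ((c2 y).1 a) ((c1 _ y).1 b) ⟨i, congrArg Subtype.val hi⟩
    ns := fun y e => h.ns y (congrArg Subtype.val e) }

/-- A strongly closed subgroup is strongly closed in every 2-group containing it. -/
theorem sc_of {T Q : Subgroup G} (hT : IsSyl 2 T ⊤) (sc : IsStronglyClosed E T) (p : IsPGroup 2 Q)
    (le : E ≤ Q) {e s : G} (he : e ∈ E) (c : IsConj e s) (hs : s ∈ Q) : s ∈ E := by
  obtain ⟨g, -, hg⟩ := hT.exists_cj_le p le_top
  have e1 : cj g E = E := eq_of_le_of_card_ge (by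
    rintro _ ⟨x, hx, rfl⟩
    exact sc.2 x hx g (hg (conj_mem_cj (le hx)))) (card_cj g E).ge
  obtain ⟨y, rfl⟩ := isConj_iff.1 c
  refine conj_mem_cj_iff.1 (e1.ge (?_ : g * (y * e * y⁻¹) * g⁻¹ ∈ E))
  have := hg (conj_mem_cj hs)
  rw [show g * (y * e * y⁻¹) * g⁻¹ = g * y * e * (g * y)⁻¹ by group] at this ⊢
  exact sc.2 e he _ this

theorem simple3 (J0 : Jobs0.{u}) (J2 : Jobs2.{u}) [X.Normal] [IsSimpleGroup X] (h : EH E A t n)
    (hA : A ≤ X) (e : E ⊔ X = ⊤) (four : 4 ≤ Nat.card E) : A = X := by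
  obtain ⟨U, hU, p, hn⟩ := h.toUA.nonab J0
  have h1 : U ≠ ⊥ := by
    rintro rfl
    obtain ⟨a, ha, b, -, ab⟩ := hn
    exact ab (by rw [mem_bot.1 ha, one_mul, mul_one])
  have e2 : X2 G = X := X2_eq (let ⟨a, ha, b, hb, ab⟩ := hn; ⟨a, hA (hU ha), b, hA (hU hb), ab⟩)
    (two_of_sq h.el) e
  obtain ⟨T, hT, sc⟩ := (top2 J0 J2 h.toUA h.tE h.el four h.cE h.dj h.c2).resolve_right
    (not_outSC e2 (hU.trans hA) p hn)
  by_cases c : E ⊓ X = ⊥
  · refine (simple_cases hA ((le_cen1_of_iso (hU.trans hA) p h1 ⟨h.ord, fun g hg => ?_⟩).trans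
      h.nrm)).resolve_left fun c => h1 (le_bot_iff.1 (c ▸ hU))
    have tt := h.el t h.tE
    have m := sc_of hT sc (two_sup_zpowers (two_of_sq h.el) (centralizer_le_normalizer _
      (h.Ec (mem_cen1.2 hg.symm))) ⟨1, by rw [pow_one, pow_two, IsConj.sq_one (isConj_conj g t) tt]⟩)
      le_sup_left h.tE (isConj_conj g t) (mem_sup_right (mem_zpowers _))
    refine mul_inv_eq_one.1 (mem_bot.1 (c.le (mem_inf.2 ⟨mul_mem m (inv_mem h.tE), ?_⟩)))
    obtain ⟨x, hx, y, hy, rfl⟩ := (mem_sup_right_norm (N := X) (H := E)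
      (by rw [normalizer_eq_top]; exact le_top)).1 ((sup_comm E X ▸ e).ge (mem_top g))
    rw [show x * y * t * (x * y)⁻¹ * t⁻¹ = x * (y * t * y⁻¹ * x⁻¹ * t⁻¹) by group,
      comm_of_sq h.el hy h.tE, mul_inv_cancel_right]
    exact mul_mem hx (Normal.conj_mem ‹_› _ (inv_mem hx) t)
  · obtain ⟨a, ha, a1⟩ := (bot_or_exists_ne_one _).resolve_left c
    obtain ⟨z, hz, z1, zz, -⟩ := ex_cen_inv p le_rfl le_normalizer h1
    refine (z1 (h.dj z (sc_of hT sc (IsPGroup.to_sup_of_normal_right' (two_of_sq h.el) p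
      ((h.EA.trans (centralizer_le hU)).trans (centralizer_le_normalizer _))) le_sup_left ha.1
      (conj_in hT c h.el sc (hU.trans hA) p hn ha.2 (hA (hU hz))
        (orderOf_eq_prime (by rw [pow_two, h.el a ha.1]) a1) (orderOf_eq_prime (by rw [pow_two, zz]) z1))
      (mem_sup_right hz)) (hU hz))).elim

theorem simple4 (J0 : Jobs0.{u}) (J2 : Jobs2.{u}) [X.Normal] [IsSimpleGroup X] (h : EH E A t n)
    (hA : A ≤ X) (four : 4 ≤ Nat.card E) : A = X := by
  have hX : X ≤ E ⊔ X := le_sup_right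
  haveI := (subgroupOfEquivOfLe hX).isSimpleGroup
  have := simple3 J0 J2 (X := X.subgroupOf _) (h.sub (hA.trans hX) le_sup_left) (comap_mono hA) (by
      apply map_injective (subtype_injective _)
      rw [Subgroup.map_sup, map_subgroupOf_eq_of_le le_sup_left, map_subgroupOf_eq_of_le hX,
        ← MonoidHom.range_eq_map, range_subtype])
    (by rwa [Nat.card_congr (subgroupOfEquivOfLe le_sup_left).toEquiv])
  rw [← map_subgroupOf_eq_of_le (hA.trans hX), this, map_subgroupOf_eq_of_le hX]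

theorem UA.center_bot (J : Jobs0.{u}) (h : UA A t n) (hO : oddCore G = ⊥) [A.Normal] : center A = ⊥ := by
  haveI : (A ⊓ cen A).Normal := inferInstance
  have : A ⊓ cen A ≤ oddCore G := H2.le_oddCore (by
    by_contra c
    obtain ⟨z, hz⟩ := exists_prime_orderOf_dvd_card' 2 (Nat.not_odd_iff_even.1 c).two_dvd
    have := zodd J h.two h.iso z.2.1 z.2.2 ⟨1, by rw [pow_one, ← hz, ← orderOf_coe, pow_orderOf_eq_one]⟩
    rw [show z = 1 from Subtype.ext this, orderOf_one] at hz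
    exact absurd hz (by norm_num))
  rw [hO, le_bot_iff, ← H14.map_center_subtype] at this
  exact (map_eq_bot_iff_of_injective _ (subtype_injective _)).1 this

theorem quot_of_bot {L : Type*} [Group L] (h : center L = ⊥) : Nonempty (L ≃* L ⧸ center L) :=
  ⟨((QuotientGroup.quotientMulEquivOfEq h).trans QuotientGroup.quotientBot).symm⟩

theorem core_free (J0 : Jobs0.{u}) (J1 : Jobs1.{u}) (J2 : Jobs2.{u}) (h : EH E A t n) (hq : IsQuasisimple A)
    (hO : oddCore G = ⊥) {L : Type*} [Group L] (hX : Nonempty (A ⧸ center A ≃* L)) :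
    (∃ N : Subgroup G, N.Normal ∧ (Nonempty (N ≃* L) ∨ Nonempty (N ≃* L × L) ∨
      H10.C2.IsL3 N (2 ^ (2 * n)))) ∧ (4 ≤ Nat.card E → center A = ⊥) := by
  obtain ⟨e⟩ := hX
  have nr : A.Normal → (∃ N : Subgroup G, N.Normal ∧ (Nonempty (N ≃* L) ∨ Nonempty (N ≃* L × L) ∨
      H10.C2.IsL3 N (2 ^ (2 * n)))) ∧ (4 ≤ Nat.card E → center A = ⊥) := fun a =>
    let ⟨f⟩ := quot_of_bot (h.toUA.center_bot J0 hO)
    ⟨⟨A, a, Or.inl ⟨f.trans e⟩⟩, fun _ => h.toUA.center_bot J0 hO⟩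
  have nl := H14.layer_normal G
  rcases Cfsg.Agent.S1347.result A (h.standard J0 hq) hO t h.ord (h.EA h.tE) with
    a | ⟨X, s, nc, ⟨f⟩, a, b, c, -⟩ | ⟨a, s, -⟩
  · exact nr a
  · have z : center A = ⊥ := by
      haveI := f.symm.isSimpleGroup
      exact (IsSimpleGroup.eq_bot_or_eq_top_of_normal _ inferInstance).resolve_right
        (H14.quasi_center_ne_top hq)
    obtain ⟨g⟩ := H24.equiv_prod (C := layer G) ⟨c ▸ le_sup_left, c ▸ le_sup_right, a, b, c⟩
    have e' : X ≃* X.map (MulAut.conj t).toMonoidHom := X.equivMapOfInjective _ (MulAut.conj t).injective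
    obtain ⟨q⟩ := quot_of_bot z
    have f' := f.trans (q.trans e)
    exact ⟨⟨_, nl, Or.inr (Or.inl ⟨g.trans (f'.prodCongr (e'.symm.trans f'))⟩)⟩, fun _ => z⟩
  rcases h.card with ⟨c, c'⟩ | c
  · rcases simple2 J0 J1 h.toUA a (h.cyc c') with b | ⟨b, -⟩
    · exact nr (b.symm ▸ nl)
    · exact ⟨⟨_, nl, Or.inr (Or.inr b)⟩, fun f => by omega⟩
  · exact nr ((simple4 J0 J2 h a c).symm ▸ nl)

theorem cen_of_mod (hq : IsQuasisimple A) {O Y : Subgroup G} [O.Normal] (hO : ¬ A ≤ O) (h1 : Y ≤ nor A)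
    (h2 : ⁅Y, A⁆ ≤ O) : Y ≤ cen A := by
  have z : O ⊓ A ≤ cen A := fun x hx => (H14.map_center_subtype A).le
    ⟨⟨x, hx.2⟩, (H14.quasi_normal hq (O.subgroupOf A)).resolve_left (fun c => hO (subgroupOf_eq_top.1 c)) hx.1,
      rfl⟩ |>.2
  exact commutator_eq_bot_iff_le_centralizer.1 (H14.commutator_eq_bot_of_perfect (isPerfect_iff.1 hq.1)
    (commutator_eq_bot_iff_le_centralizer.2 ((le_inf h2 (le_normalizer_iff_commutator_le_right.1 h1)).trans z)))

theorem odd_pow_inv {e : G} (ee : e * e = 1) {m : ℕ} (hm : Odd m) : e ^ m = e := by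
  obtain ⟨i, rfl⟩ := hm
  rw [pow_succ, pow_mul, pow_two, ee, one_pow, one_mul]

theorem eq_one_of_odd {o : G} (h : Odd (orderOf o)) (e : E2 o) : o = 1 :=
  let ⟨i, hi⟩ := e
  orderOf_eq_one_iff.1 (Nat.Coprime.eq_one_of_dvd ((Nat.coprime_two_right.2 h).pow_right i)
    (orderOf_dvd_of_pow_eq_one hi))

theorem UA.not_le (J : Jobs0.{u}) (h : UA A t n) {O : Subgroup G} (hO : Odd (Nat.card O)) : ¬ A ≤ O := fun c => by
  obtain ⟨U, a, p, x, hx, y, -, b⟩ := h.nonab J
  exact b (by rw [eq_one_of_odd (hO.of_dvd_nat (O.orderOf_dvd_natCard (c (a hx)))) (e2_of_mem p hx), one_mul,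
    mul_one])

theorem EH.quot (J : Jobs0.{u}) (h : EH E A t n) (hq : IsQuasisimple A) {F : Type*} [Field F] [Fintype F]
    (hF : Fintype.card F = 4 ^ n) (hX : Nonempty (A ⧸ center A ≃* PSU 3 F (2 ^ n))) {H : Type u} [Group H]
    [Finite H] (f : G →* H) (hf : Function.Surjective f) (hO : Odd (Nat.card f.ker)) :
    EH (E.map f) (A.map f) (f t) n ∧ IsQuasisimple (A.map f) ∧ Nat.card (E.map f) = Nat.card E ∧
      Nonempty (A.map f ⧸ center (A.map f) ≃* PSU 3 F (2 ^ n)) := by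
  have od : ∀ o, f o = 1 → Odd (orderOf o) := fun o ho => hO.of_dvd_nat (f.ker.orderOf_dvd_natCard ho)
  have nl := h.toUA.not_le J hO
  have ne : A.map f ≠ ⊥ := fun c => nl ((map_eq_bot_iff A).1 c)
  have q := H14.quasi_map hq f ne
  have inj : ∀ e ∈ E, f e = 1 → e = 1 := fun e he c =>
    eq_one_of_odd (od e c) ⟨1, by rw [pow_one, pow_two, h.el e he]⟩
  have iso : Nonempty (A.map f ⧸ center (A.map f) ≃* PSU 3 F (2 ^ n)) := by
    haveI := (nontrivial_iff_ne_bot _).2 ne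
    obtain ⟨a⟩ := quot_center_map hq (f.subgroupMap A) (f.subgroupMap_surjective A)
    obtain ⟨b⟩ := hX
    exact ⟨a.symm.trans b⟩
  have cm : ∀ e ∈ E, e ≠ 1 → cen1 (f e) = (cen1 t).map f := fun e he e1 => by
    rw [← h.cE e he e1]
    exact (H18.map_centralizer_singleton_of_coprime f hf (by
      rw [orderOf_eq_prime (by rw [pow_two, h.el e he]) e1]; exact Nat.coprime_two_left.2 hO)).symm
  have ct := cm t h.tE h.t1
  have cA : ∀ y ∈ cen (A.map f), y ∈ cen1 (f t) → ∃ e ∈ E, ∃ z ∈ A, z ∈ cen A ∧ y = f e * f z := fun y a b => by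
    obtain ⟨y, hy, rfl⟩ := ct.le b
    obtain ⟨e, he, z, hz, c, rfl⟩ := h.cA y (cen_of_mod hq nl (Y := nor A ⊓ (cen (A.map f)).comap f) inf_le_left
      (commutator_le.2 fun x hx w hw => by
        rw [MonoidHom.mem_ker, map_commutatorElement, commutatorElement_eq_one_iff_mul_comm]
        exact (hx.2 _ ⟨w, hw, rfl⟩).symm) ⟨h.nrm hy, a⟩) hy
    exact ⟨e, he, z, hz, c, map_mul _ _ _⟩
  have mc : (cen A).map f ≤ cen (A.map f) := by
    rintro _ ⟨x, hx, rfl⟩ _ ⟨y, hy, rfl⟩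
    rw [← map_mul, ← map_mul, hx y hy]
  have dj : ∀ e ∈ E.map f, e ∈ A.map f → e = 1 := by
    rintro _ ⟨e, he, rfl⟩ ⟨a, ha, c⟩
    have o := od (e * a) (by rw [map_mul, c, ← map_mul, h.el e he, map_one])
    have := pow_orderOf_eq_one (e * a)
    rw [Commute.mul_pow (h.EA he a ha).symm, odd_pow_inv (h.el e he) o] at this
    rw [h.dj e he (by rw [eq_inv_of_mul_eq_one_left this]; exact inv_mem (pow_mem ha _)), map_one]
  have iso' := iso_of_qs q h.two hF iso
  refine ⟨{ two := h.two, iso := iso', tE := ⟨t, h.tE, rfl⟩, dj := dj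
            ord := orderOf_eq_prime (by rw [pow_two, ← map_mul, h.el t h.tE, map_one]) (mt (inj t h.tE) h.t1)
            le := ct ▸ map_mono h.le, nrm := ct ▸ (map_mono h.nrm).trans (le_normalizer_map f)
            el := by rintro _ ⟨e, he, rfl⟩; rw [← map_mul, h.el e he, map_one]
            cE := by
              rintro _ ⟨e, he, rfl⟩ c
              rw [cm e he fun b => c (by rw [b, map_one]), ct]
            EA := (map_mono h.EA).trans mc
            cA := fun y a b => let ⟨e, he, z, hz, c, g⟩ := cA y a b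
              ⟨_, ⟨e, he, rfl⟩, _, ⟨z, hz, rfl⟩, mc ⟨z, c, rfl⟩, g⟩
            c2 := fun y a b ⟨i, hi⟩ => ?_, ns := fun y hy => ?_ }, q, ?_, iso⟩
  · obtain ⟨e, he, z, hz, c, rfl⟩ := cA y a b
    rw [zodd J h.two iso' ⟨z, hz, rfl⟩ (mc ⟨z, c, rfl⟩) ⟨i, dj _ ?_ (pow_mem (mem_map_of_mem f hz) _)⟩, mul_one]
    · exact ⟨e, he, rfl⟩
    rw [Commute.mul_pow (Commute.map (h.EA he z hz).symm f)] at hi
    rw [eq_inv_of_mul_eq_one_right hi]
    exact inv_mem (pow_mem (mem_map_of_mem f he) _)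
  · obtain ⟨y, c, rfl⟩ := ct.le (mem_cen1.2 (show y * f t = f t * y by rw [← hy, mul_assoc]))
    have o := od (t * (y * y)) (by rw [map_mul, map_mul, hy, ← map_mul, h.el t h.tE, map_one])
    have := pow_orderOf_eq_one (t * (y * y))
    have c : Commute y t := mem_cen1.1 c
    rw [Commute.mul_pow (c.mul_left c).symm, odd_pow_inv (h.el t h.tE) o, (Commute.refl y).mul_pow] at this
    exact h.ns _ ((eq_inv_of_mul_eq_one_right this).trans (inv_eq_of_mul_eq_one_right (h.el t h.tE)))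
  · exact (Nat.card_congr (Equiv.ofBijective (f.subgroupMap E) ⟨(injective_iff_map_eq_one _).2 fun e c =>
      Subtype.ext (inj e e.2 (congrArg Subtype.val c)), f.subgroupMap_surjective E⟩)).symm

theorem s3314 (J0 : Jobs0.{u}) (J1 : Jobs1.{u}) (J2 : Jobs2.{u}) (h : EH E A t n) (hq : IsQuasisimple A)
    {F : Type*} [Field F] [Fintype F] (hF : Fintype.card F = 4 ^ n)
    (hX : Nonempty (A ⧸ center A ≃* PSU 3 F (2 ^ n))) :
    (∃ N : Subgroup (G ⧸ oddCore G), N.Normal ∧ (Nonempty (N ≃* PSU 3 F (2 ^ n)) ∨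
      Nonempty (N ≃* PSU 3 F (2 ^ n) × PSU 3 F (2 ^ n)) ∨
        Nonempty (N ≃* Matrix.ProjectiveSpecialLinearGroup (Fin 3) F))) ∧
    (2 < Nat.card E → oddCore G = (center A).map A.subtype) := by
  have hO := H2.odd_card_oddCore G
  obtain ⟨a, b, c, e⟩ := h.quot J0 hq hF hX (QuotientGroup.mk' (oddCore G)) (QuotientGroup.mk'_surjective _)
    (by rwa [QuotientGroup.ker_mk'])
  obtain ⟨⟨N, n1, n2⟩, z⟩ := core_free J0 J1 J2 a b (H31.S2.oddCore_quot G) e
  refine ⟨⟨N, n1, n2.imp_right (Or.imp_right fun ⟨K, _, _, hK, ⟨g⟩⟩ => ⟨g.trans (H55.pslCongr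
    (FiniteField.ringEquivOfCardEq (by rw [hK, hF, pow_mul]; rfl)))⟩)⟩, fun l => ?_⟩
  have four : 4 ≤ Nat.card E := h.card.resolve_left fun e => by omega
  rw [H14.map_center_subtype]
  refine le_antisymm (fun o ho => ?_) fun x hx => ?_
  · have oc : oddCore G ≤ cen1 t := H31.S2.OI.le_of_cen1 (A := E) ⟨hO, by rw [nor, normalizer_eq_top]; exact le_top⟩
      (elem_of_sq h.el) four fun e he e1 => h.cE e he e1 ▸ inf_le_right
    obtain ⟨e, he, z, hz, c, rfl⟩ := h.cA o (cen_of_mod hq (h.toUA.not_le J0 hO) (oc.trans h.nrm)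
      (commutator_le_left _ _) ho) (oc ho)
    have := pow_orderOf_eq_one (e * z)
    rw [Commute.mul_pow (h.EA he z hz).symm, odd_pow_inv (h.el e he)
      (hO.of_dvd_nat ((oddCore G).orderOf_dvd_natCard ho))] at this
    rw [h.dj e he (by rw [eq_inv_of_mul_eq_one_left this]; exact inv_mem (pow_mem hz _)), one_mul]
    exact ⟨hz, c⟩
  · have := mem_bot.1 ((z (c ▸ four)).le (x := ⟨_, mem_map_of_mem _ hx.1⟩) (mem_center_iff.2 (by
      rintro ⟨_, y, hy, rfl⟩
      exact Subtype.ext (by simpa using congrArg (QuotientGroup.mk' (oddCore G)) (hx.2 y hy)))))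
    exact (QuotientGroup.eq_one_iff x).1 (congrArg Subtype.val this)

end H15.BG
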