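import Cfsg.Agent.H15.BGAll
import Cfsg.Agent.H15.BGFin3
import Cfsg.Agent.H20.BgFE
import Cfsg.Agent.H76.BGES
import Cfsg.Agent.H25.BGED
import Cfsg.Agent.H48.BgEP
import Cfsg.Agent.H25.BGEL
import Cfsg.Agent.H3.BgEX2
import Cfsg.Agent.H20.BgET
import Cfsg.Agent.H48.BgZ1
import Cfsg.Agent.H48.BgZ2

/-! All slots of the second part of the tower. -/

set_option autoImplicit false

namespace H15.BG

universe u

theorem j2 : Jobs2.{u} :=
  { fe := H20.BgFE.jobFE, es := H76.BG.jobES, ec := H25.BG.jobEC, ep := H48.BgEP.jobEP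
    ed := H25.BG.jobED, el := H25.BG.jobEL, ex := H3.Bg.jobEX, et := H20.BgET.jobET
    ez1 := H48.BgZ.jobEZ1, ez2 := H48.BgZ.jobEZ2 }

end H15.BG
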