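import Cfsg.Agent.H15.BGFin
import Cfsg.Agent.H84.Isolated2
import Cfsg.Agent.S0282

/-! BGS: S3151, given the slots. -/

set_option autoImplicit false
set_option linter.unusedSectionVars false
set_option maxHeartbeats 400000

namespace H15.BG

open Cfsg Subgroup H98 H1.Gold H85.TW

universe u

variable {G : Type u} [Group G] [Finite G] {A X H E P U : Subgroup G} {t : G} {n : ℕ}

theorem zodd (J : Jobs0.{u}) (hn : 2 ≤ n) (h : ∃ (F : Type) (_ : Field F) (_ : Fintype F),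
    Fintype.card F = 4 ^ n ∧ (Nonempty (A ≃* PSU 3 F (2 ^ n)) ∨ Nonempty (A ≃* SU 3 F (2 ^ n))))
    {z : G} (h1 : z ∈ A) (h2 : z ∈ cen A) (h3 : E2 z) : z = 1 := by
  obtain ⟨F, _, _, c, e⟩ := h
  obtain ⟨k, K, _, _, _, _, _, _, _, d, w, -, -, r⟩ := J.rk G A 1 F n hn c e
  obtain ⟨i, hi⟩ := h3
  have := r.sylU.le_of_le_normalizer (isPGroup_zpowers hi) (zpowers_le.2 h1) (r.sylU.le.trans
    ((le_centralizer_iff.1 (zpowers_le.2 h2)).trans (centralizer_le_normalizer _))) (mem_zpowers z)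
  by_contra c
  exact r.wn (r.tiA w r.wA z this c (by rwa [h2 w r.wA, mul_inv_cancel_right]))

/-- What the hypotheses of S3151 and S3314 give. -/
structure EH (E A : Subgroup G) (t : G) (n : ℕ) : Prop extends UA A t n where
  tE : t ∈ E
  el : ∀ e ∈ E, e * e = 1
  cE : ∀ e ∈ E, e ≠ 1 → cen1 e = cen1 t
  EA : E ≤ cen A
  dj : ∀ e ∈ E, e ∈ A → e = 1
  cA : ∀ y ∈ cen A, y ∈ cen1 t → ∃ e ∈ E, ∃ z ∈ A, z ∈ cen A ∧ y = e * z
  c2 : ∀ y ∈ cen A, y ∈ cen1 t → E2 y → y ∈ E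
  ns : ∀ y, y * y ≠ t

theorem two_le {F : Type*} [Field F] [Fintype F] (hq : IsQuasisimple A) (hF : Fintype.card F = 4 ^ n)
    (h : Nonempty (A ⧸ center A ≃* PSU 3 F (2 ^ n))) : 2 ≤ n := by
  obtain ⟨e⟩ := h
  rcases n with _ | _ | n
  · exact absurd hF Fintype.one_lt_card.ne'
  · haveI := (Cfsg.Agent.S0282.result (F := F) hF).2
    haveI := hq.1
    haveI := hq.2
    haveI : Group.IsSolvable (A ⧸ center A) := solvable_of_solvable_injective (f := e.toMonoidHom) e.injective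
    haveI : Group.IsPerfect (A ⧸ center A) := inferInstance
    exact (Group.IsPerfect.not_isSolvable (A ⧸ center A) ‹_›).elim
  · omega

theorem EH.of (J : Jobs0.{u}) (ht : orderOf t = 2) (hEU : IsInternalDirectProduct E U (cen1 t))
    (hE : IsElementaryAbelian 2 E) (hU : A ≤ U) (hN : (A.subgroupOf U).Normal) (hq : IsQuasisimple A)
    {F : Type*} [Field F] [Fintype F] (hF : Fintype.card F = 4 ^ n)
    (hX : Nonempty (A ⧸ center A ≃* PSU 3 F (2 ^ n))) (hC : U ⊓ cen A = (center A).map A.subtype)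
    (hc : ∀ e ∈ E, orderOf e = 2 → cen1 e = cen1 t) : EH E A t n := by
  obtain ⟨a, b, c, d, e⟩ := hEU
  have hn := two_le hq hF hX
  have iso := iso_of_qs hq hn hF hX
  have el : ∀ e ∈ E, e * e = 1 := fun x hx => by rw [← pow_two, hE.2 x hx]
  have EU : E ≤ cen U := fun x hx y hy => (c x hx y hy).symm
  have EA : E ≤ cen A := EU.trans (centralizer_le hU)
  have dec : ∀ y ∈ cen1 t, ∃ x ∈ E, ∃ u ∈ U, y = x * u := fun y hy =>
    (mem_sup_left_norm (EU.trans (centralizer_le_normalizer _))).1 (e.ge hy)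
  have cA : ∀ y ∈ cen A, y ∈ cen1 t → ∃ e ∈ E, ∃ z ∈ A, z ∈ cen A ∧ y = e * z := fun y h1 h2 => by
    obtain ⟨x, hx, u, hu, rfl⟩ := dec y h2
    have h3 : u ∈ cen A := (mul_mem_cancel_left (EA hx)).1 h1
    exact ⟨x, hx, u, map_subtype_le _ (hC.le ⟨hu, h3⟩), h3, rfl⟩
  have c2 : ∀ y ∈ cen A, y ∈ cen1 t → E2 y → y ∈ E := fun y h1 h2 ⟨i, hi⟩ => by
    obtain ⟨x, hx, z, h3, h4, rfl⟩ := cA y h1 h2
    rw [zodd J hn iso h3 h4 ⟨i, mem_bot.1 (d.le (mem_inf.2 ⟨?_, pow_mem (hU h3) _⟩))⟩, mul_one]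
    · exact hx
    rw [Commute.mul_pow (c x hx z (hU h3))] at hi
    rw [eq_inv_of_mul_eq_one_right hi]
    exact inv_mem (pow_mem hx _)
  have tE := c2 t (H31.S2.le_cen1_iff.1 (hU.trans b)) (mem_cen1.2 rfl)
    ⟨1, by rw [pow_one, ← ht, pow_orderOf_eq_one]⟩
  refine
    { two := hn, ord := ht, iso := iso, le := hU.trans b, tE := tE, el := el, EA := EA, cA := cA, c2 := c2
      nrm := e.ge.trans (sup_le (EA.trans (centralizer_le_normalizer _))
        ((normal_subgroupOf_iff_le_normalizer hU).1 hN))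
      cE := fun x hx h => hc x hx (H31.S2.elem_order hE hx h)
      dj := fun x hx h => mem_bot.1 (d.le ⟨hx, hU h⟩), ns := fun y hy => ?_ }
  obtain ⟨x, hx, u, hu, rfl⟩ := dec y (mem_cen1.2 (by rw [← hy, mul_assoc]))
  rw [mul_assoc, ← mul_assoc u, ← c x hx u hu, ← mul_assoc, ← mul_assoc, el x hx, one_mul] at hy
  have := mem_bot.1 (d.le ⟨tE, hy ▸ mul_mem hu hu⟩)
  rw [this, orderOf_one] at ht
  exact absurd ht (by norm_num)

theorem EH.card (h : EH E A t n) : (Nat.card E = 2 ∧ zpowers t = E) ∨ 4 ≤ Nat.card E := by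
  obtain ⟨m, hm⟩ := (show IsPGroup 2 E from fun x => ⟨1, Subtype.ext (by
    simpa [pow_two] using h.el x x.2)⟩).exists_card_eq
  have := card_le_of_le (zpowers_le.2 h.tE)
  rw [Nat.card_zpowers, h.ord] at this
  rcases m with _ | _ | m
  · omega
  · exact Or.inl ⟨hm, eq_of_le_of_card_ge (zpowers_le.2 h.tE) (by rw [Nat.card_zpowers, h.ord, hm]; rfl)⟩
  · exact Or.inr (hm ▸ Nat.pow_le_pow_right (n := 2) two_pos (by omega : 2 ≤ m + 1 + 1))

theorem EH.cyc (h : EH E A t n) (e : zpowers t = E) (R : Subgroup G) (a : R ≤ cen A ⊓ cen1 t)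
    (p : IsPGroup 2 R) : IsCyclic R := by
  refine isCyclic_of_le (e.symm ▸ fun y hy => h.c2 y (a hy).1 (a hy).2 ?_ : R ≤ zpowers t)
  obtain ⟨i, hi⟩ := p ⟨y, hy⟩
  exact ⟨i, congrArg Subtype.val hi⟩

theorem s3151 (J0 : Jobs0.{u}) (J1 : Jobs1.{u}) (J2 : Jobs2.{u}) (h : EH E A t n) :
    (∃ (P : Sylow 2 G) (Q : Subgroup G), Q ≠ ⊥ ∧ IsElementaryAbelian 2 Q ∧ IsStronglyClosed Q P) ∨
      (Nat.card E = 2 ∧ ∃ H : Subgroup G, IsComplement' E H) := by
  have o : OutSC G → ∃ (P : Sylow 2 G) (Q : Subgroup G), Q ≠ ⊥ ∧ IsElementaryAbelian 2 Q ∧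
      IsStronglyClosed Q P := fun ⟨T, Q, a, b, c, d, _⟩ => ⟨a.toSylowTop, Q, b, c, d⟩
  have h1 : E ≠ ⊥ := fun e => by
    have := h.ord
    rw [mem_bot.1 (e.le h.tE), orderOf_one] at this
    exact absurd this (by norm_num)
  rcases h.card with ⟨c, e⟩ | c
  · rcases iso_or h.ord with i | i
    · obtain ⟨P, hP⟩ := (isPGroup_zpowers (k := 1) (x := t)
        (by rw [pow_one, pow_two, h.el t h.tE])).exists_le_sylow
      refine Or.inl ⟨P, E, h1, elem_of_sq h.el, e ▸ hP, fun x hx g hg => ?_⟩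
      rcases (mem_sup_inv (X := ⊥) (h.el t h.tE) (by rw [nor, normalizer_eq_top]; trivial)).1
        (mem_sup_right (e.ge hx)) with f | f
      · simp [mem_bot.1 f]
      · have xt : x = t := by
          rw [← inv_eq_of_mul_eq_one_right (mem_bot.1 f), inv_eq_of_mul_eq_one_right (h.el t h.tE)]
        subst xt
        rw [i.2 g (mem_cen1.1 (H84.iso_sylow_le_centralizer i P (hP (mem_zpowers _)) hg)).symm]
        exact hx
    · exact (top1 J0 J1 h.toUA (h.cyc e) i).imp o fun l => ⟨c, e ▸ l.compl h.ns⟩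
  · rcases top2 J0 J2 h.toUA h.tE h.el c h.cE h.dj h.c2 with ⟨T, a, b⟩ | b
    · exact Or.inl ⟨a.toSylowTop, E, h1, elem_of_sq h.el, b⟩
    · exact Or.inl (o b)

end H15.BG
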