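import Cfsg.Agent.H15.BUEP3

/-! BX, chapter U, job EP: the group `Q = W U E` and its coordinates. -/

set_option autoImplicit false
set_option linter.unusedSectionVars false
set_option maxHeartbeats 400000

namespace H15.BU.EP

open Cfsg Subgroup H98 H1.Gold H85.TW H15.BG
open H31.S2 (mem_cen_iff)
open H1.GH (cen_conj cen_conj')
open H55.GH (cmul)

universe u

variable {G : Type u} [Group G] [Finite G] {k K : Type} [Field k] [Field K] [Algebra k K]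
  [Finite k] [Finite K] [CharP k 2] [CharP K 2] {d : Dat G k K} {E W : Subgroup G} {φ : G → k}
  {e e' g n u u' w w' x y z : G} {a a' b : k}

/-- The coordinates. -/
def Cd (d : Dat G k K) (E W : Subgroup G) (φ : G → k) (x : G) (v : (k × k) × K) : Prop :=
  ∃ w ∈ W, ∃ u ∈ d.U, ∃ e ∈ E, ∃ a, Tl d E φ w a ∧ x = w * u * e ∧ v = ((a, φ e), d.π u)

variable (h : PW d E φ W)
include h

local notation "hL" => Su.toLocE (PW.toSu h)

theorem memQ : x ∈ W ⊔ d.U ⊔ E ↔ ∃ w ∈ W, ∃ u ∈ d.U, ∃ e ∈ E, ∃ a, Tl d E φ w a ∧ x = w * u * e := by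
  have h1 : d.U ≤ nor W := (le_centralizer_iff.1 h.cU).trans (centralizer_le_normalizer _)
  have h2 : E ≤ nor (W ⊔ d.U) := fun e he => H55.GH.nor_sup (h.norW e (le_normalizer he)
    (centralizer_le_normalizer _ (EU hL he))) (centralizer_le_normalizer _ (EU hL he))
  rw [← SetLike.mem_coe, coe_mul_of_right_le_normalizer_left _ E h2, coe_mul_of_right_le_normalizer_left _ _ h1]
  constructor
  · rintro ⟨_, ⟨w, hw, u, hu, rfl⟩, e, he, rfl⟩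
    exact ⟨w, hw, u, hu, e, he, (h.tlW w hw).imp fun _ t => ⟨t, rfl⟩⟩
  · rintro ⟨w, hw, u, hu, e, he, -, -, rfl⟩
    exact ⟨_, ⟨w, hw, u, hu, rfl⟩, e, he, rfl⟩

theorem tlQ (hw : w ∈ W) (hu : u ∈ d.U) (he : e ∈ E) (t : Tl d E φ w a) : Tl d E φ (w * u * e) a := by
  have := t.mul hL (tl_cen hL (mul_mem (h.UE hu) (EC hL he))) (cZ hL (h.cU hw))
  rwa [add_zero, ← mul_assoc] at this

theorem πι (hu : u ∈ d.U) (b : k) : d.π (d.ι b * u) = d.π u := by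
  rw [h.π_mul _ (ιU hL b) u hu, h.toUD.π_ι, zero_add]

theorem Cd.uniq {v v' : (k × k) × K} (h1 : Cd d E W φ x v) (h2 : Cd d E W φ x v') : v = v' := by
  obtain ⟨w, hw, u, hu, e, he, a, t, rfl, rfl⟩ := h1
  obtain ⟨w', hw', u', hu', e', he', a', t', q, rfl⟩ := h2
  obtain rfl := (tlQ h hw hu he t).uniq h.toSu (q ▸ tlQ h hw' hu' he' t')
  obtain ⟨b, rfl⟩ := h.diff hw hw' t t'
  have q1 : (d.ι b * u')⁻¹ * u = e' * e⁻¹ := by
    rw [mul_assoc, mul_assoc, mul_assoc, mul_right_inj] at q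
    rw [eq_mul_inv_of_mul_eq q]; group
  have q2 := h.disjE _ (mul_mem he' (inv_mem he)) (q1 ▸ mul_mem (inv_mem (mul_mem (ιU hL b) hu')) hu)
  rw [q2, inv_mul_eq_one] at q1
  rw [mul_inv_eq_one.1 q2, ← q1, πι h hu']

theorem mulQ (hw' : w' ∈ W) (hu : u ∈ d.U) (hu' : u' ∈ d.U) (he : e ∈ E) (t' : Tl d E φ w' a') :
    w * u * e * (w' * u' * e') = w * w' * d.ι (a' * φ e) * (u * u') * (e * e') := by
  calc _ = w * (u * (e * w' * e⁻¹) * u⁻¹) * u * (e * u' * e⁻¹) * (e * e') := by group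
    _ = _ := by
      rw [t'.cj hL (h.cU hw') he, cen_conj' (h.cU (mul_mem hw' (h.ιW _))) hu, cen_conj (EU hL he) hu']
      simp only [mul_assoc]

theorem tlι (hw : w ∈ W) (t : Tl d E φ w a) (b : k) : Tl d E φ (w * d.ι b) a :=
  add_zero a ▸ t.mul hL (tl_cen hL (h.UE (ιU hL b))) (cZ hL (h.cU hw))

theorem linesW {X : Subgroup G} (p : IsPGroup 2 X) (h1 : E ≤ X) (h2 : W ≤ nor X) (hg : g ∈ nor X) (he : e ∈ E)
    (e1 : e ≠ 1) (m : g * e * g⁻¹ ∈ d.Z ⊔ E) : ∃ w ∈ W, w⁻¹ * g ∈ nor E :=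
  let ⟨v, hv⟩ := lines' h.toSu he e1 m
  let ⟨w, hw, t⟩ := h.surj v
  ⟨w, hw, H1.GH.mem_nor fun f hf => h.tiK _ e he e1 (hv w t) X p h1 f hf
    (conj_mem_nor (mul_mem (inv_mem (h2 hw)) hg) (h1 hf))⟩

theorem W_norF : W ≤ nor (d.Z ⊔ E) := fun w hw => H1.GH.mem_nor fun x hx => by
  obtain ⟨e, he, a, rfl⟩ := (mem_F hL).1 hx
  obtain ⟨v, t⟩ := h.tlW w hw
  rw [cmul, t e he, cen_conj (h.cU hw) (ιU hL a), mul_assoc, ← h.ι_add]
  exact (mem_F hL).2 ⟨e, he, _, rfl⟩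

theorem norF (hg : g ∈ nor (d.Z ⊔ E)) : ∃ w ∈ W, w⁻¹ * g ∈ nor E ∧ w⁻¹ * g ∈ nor d.U := by
  obtain ⟨w, hw, m⟩ := linesW h (twoF hL) le_sup_right (W_norF h) hg h.tE h.t1
    (conj_mem_nor hg (mem_sup_right h.tE))
  refine ⟨w, hw, m, ?_⟩
  have gZ : g ∈ nor d.Z := H1.GH.mem_nor fun z hz => by
    obtain ⟨e, he, a, q⟩ := (mem_F hL).1 (conj_mem_nor hg (mem_sup_left hz))
    by_cases e0 : φ e = 0
    · rw [q, h.inj e he e0, one_mul]; exact h.toUD.ι_mem a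
    obtain ⟨x, -, t⟩ := h.tl (a / φ e)
    refine (h.notD z hz e he (fun e1 => e0 (e1 ▸ h.ad.one)) ((isConj_conj x e).trans ?_)).elim
    rw [t e he, div_mul_cancel₀ a e0, ← q]
    exact (isConj_conj g z).symm
  exact h.norU _ m (mul_mem (inv_mem (centralizer_le_normalizer _ (cZ hL (h.cU hw)))) gZ)

theorem exPE : ∃ p m, PE d E W (W ⊔ d.U ⊔ E) p m := by
  obtain ⟨m, hm⟩ := h.sqm
  let p : G → (k × k) × K := fun x => Classical.epsilon (Cd d E W φ x)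
  have hp : ∀ {w u e a}, w ∈ W → u ∈ d.U → e ∈ E → Tl d E φ w a → p (w * u * e) = ((a, φ e), d.π u) :=
    fun {w u e a} hw hu he t => have c : Cd d E W φ _ _ := ⟨w, hw, u, hu, e, he, a, t, rfl, rfl⟩
      (Classical.epsilon_spec ⟨_, c⟩).uniq h c
  have t1 : Tl d E φ 1 0 := tl_cen hL (one_mem _)
  have pW : ∀ {w a}, w ∈ W → Tl d E φ w a → p w = ((a, 0), 0) := fun hw t => by
    simpa [h.ad.one, h.toUD.π_one] using hp hw (one_mem _) (one_mem _) t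
  have pS : ∀ {u e}, u ∈ d.U → e ∈ E → p (u * e) = ((0, φ e), d.π u) := fun hu he => by
    simpa using hp (one_mem _) hu he t1
  have pU : ∀ {u}, u ∈ d.U → p u = ((0, 0), d.π u) := fun hu => by
    simpa [h.ad.one] using pS hu (one_mem _)
  have ad : Ad (W ⊔ d.U ⊔ E) p := fun x hx y hy => by
    obtain ⟨w, hw, u, hu, e, he, a, t, rfl⟩ := (memQ h).1 hx
    obtain ⟨w', hw', u', hu', e', he', a', t', rfl⟩ := (memQ h).1 hy
    rw [mulQ h hw' hu hu' he t', hp (mul_mem (mul_mem hw hw') (h.ιW _)) (mul_mem hu hu') (mul_mem he he')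
      (tlι h (mul_mem hw hw') (t.mul hL t' (cZ hL (h.cU hw))) _), hp hw hu he t, hp hw' hu' he' t',
      h.ad e he e' he', h.π_mul u hu u' hu']
    rfl
  have sq : ∀ x ∈ W ⊔ d.U ⊔ E, x * x = d.ι ((p x).1.1 * (m + (p x).1.2) + d.N (p x).2) := fun x hx => by
    obtain ⟨w, hw, u, hu, e, he, a, t, rfl⟩ := (memQ h).1 hx
    rw [mulQ h hw hu hu he t, hp hw hu he t, hm w hw a t, h.sq u hu, h.elE e he, mul_one, ← h.ι_add,
      ← h.ι_add, mul_add]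
  have mS : ∀ x ∈ W ⊔ d.U ⊔ E, (p x).1.1 = 0 ↔ x ∈ d.U ⊔ E := fun x hx => by
    refine ⟨fun e0 => ?_, fun m => ?_⟩
    · obtain ⟨w, hw, u, hu, e, he, a, t, rfl⟩ := (memQ h).1 hx
      rw [hp hw hu he t] at e0
      exact mul_mem_sup (mul_mem (h.ZU (h.kerW w hw ((show a = 0 from e0) ▸ t))) hu) he
    · obtain ⟨u, hu, e, he, rfl⟩ := (mem_sE hL le_rfl).1 m
      rw [pS hu he]
  have SQ : d.U ⊔ E ≤ W ⊔ d.U ⊔ E := sup_le_sup_right le_sup_right _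
  have mU : ∀ x ∈ W ⊔ d.U ⊔ E, x ∈ d.U ↔ (p x).1 = 0 := fun x hx => by
    refine ⟨fun m => by rw [pU m]; rfl, fun e0 => ?_⟩
    obtain ⟨u, hu, e, he, rfl⟩ := (mem_sE hL le_rfl).1 ((mS x hx).1 (congrArg Prod.fst e0))
    rw [pS hu he] at e0
    rwa [h.inj e he (congrArg Prod.snd e0), mul_one]
  have nQ : ∀ g ∈ nor W, g ∈ nor d.U → g ∈ nor E → g ∈ nor (W ⊔ d.U ⊔ E) := fun g a b c =>
    H55.GH.nor_sup (H55.GH.nor_sup a b) c
  have two : IsPGroup 2 ↥(W ⊔ d.U ⊔ E) := fun x => ⟨2, Subtype.ext (by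
    change x.1 ^ 2 ^ 2 = 1
    rw [show x.1 ^ 2 ^ 2 = x * x * (x * x) by simp [pow_succ, mul_assoc], sq x x.2, ιι hL])⟩
  refine ⟨p, m, rfl, two, ?_, ad, fun x hx => ⟨fun e0 => ?_, fun m => ?_⟩,
    fun x hx => ⟨fun m => ?_, fun ⟨e1, e2⟩ => ?_⟩, fun x hx => ⟨fun m => ?_, fun ⟨e1, e2⟩ => ?_⟩, mU,
    fun u hu => by rw [pU hu], fun a => ?_, sq, fun x hx y hy => ?_, fun g hg => ?_,
    fun g hg e he => linesW h two le_sup_right
      ((le_sup_left.trans le_sup_left).trans le_normalizer) hg he, fun n h1 h2 h3 => ?_, h.WX⟩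
  · have a2 : Ad (d.U ⊔ E) fun x => (p x).1.2 := fun x hx y hy =>
      congrArg (·.1.2) (ad x (SQ hx) y (SQ hy))
    have a1 : Ad (W ⊔ d.U ⊔ E) fun x => (p x).1.1 := fun x hx y hy => congrArg (·.1.1) (ad x hx y hy)
    have c1 := a1.card SQ mS
    rw [show a1.im = ⊤ from eq_top_iff.2 fun a _ => let ⟨w, hw, t⟩ := h.surj a
      ⟨w, mem_sup_left (mem_sup_left hw), congrArg (·.1.1) (pW hw t)⟩, AddSubgroup.card_top] at c1
    have c2 := a2.card le_sup_left fun x hx => ⟨fun e0 => (mU x (SQ hx)).2 (Prod.ext ((mS x (SQ hx)).2 hx) e0),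
      fun m => by rw [pU m]⟩
    have c3 := h.ad.card bot_le fun x hx => ⟨h.inj x hx, fun e => mem_bot.1 e ▸ h.ad.one⟩
    rw [c1, c2, c3, h.cardU, card_bot, show a2.im = h.ad.im from AddSubgroup.ext fun c => ⟨fun ⟨x, hx, e⟩ => by
      obtain ⟨u, hu, f, hf, rfl⟩ := (mem_sE hL le_rfl).1 hx
      exact ⟨f, hf, (congrArg (·.1.2) (pS hu hf)).symm.trans e⟩, fun ⟨f, hf, e⟩ => ⟨1 * f,
        mul_mem_sup (one_mem _) hf, (congrArg (·.1.2) (pS (one_mem _) hf)).trans e⟩⟩]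
    ring
  · have m := (mU x hx).2 (congrArg Prod.fst e0)
    rw [pU m] at e0
    exact (h.ker x m).1 (congrArg Prod.snd e0)
  · rw [pU (h.ZU m), (h.ker x (h.ZU m)).2 m]; rfl
  · obtain ⟨a, t⟩ := h.tlW x m
    rw [pW m t]; exact ⟨rfl, rfl⟩
  · obtain ⟨w, hw, u, hu, e, he, a, t, rfl⟩ := (memQ h).1 hx
    rw [hp hw hu he t] at e1 e2
    obtain ⟨b, rfl⟩ := (h.memZ u).1 ((h.ker u hu).1 e2)
    rw [h.inj e he e1, mul_one]
    exact mul_mem hw (h.ιW b)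
  · obtain ⟨z, hz, e, he, rfl⟩ := (mem_sE hL h.ZU).1 m
    rw [pS (h.ZU hz) he]
    exact ⟨rfl, (h.ker z (h.ZU hz)).2 hz⟩
  · obtain ⟨u, hu, e, he, rfl⟩ := (mem_sE hL le_rfl).1 ((mS x hx).1 e1)
    rw [pS hu he] at e2
    exact mul_mem_sup ((h.ker u hu).1 e2) he
  · obtain ⟨w, hw, t⟩ := h.surj a
    exact ⟨w, hw, by rw [pW hw t]⟩
  · obtain ⟨w, hw, u, hu, e, he, a, t, rfl⟩ := (memQ h).1 hx
    obtain ⟨w', hw', u', hu', e', he', a', t', rfl⟩ := (memQ h).1 hy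
    have c2 := cι hL (EU hL (mul_mem he' he))
    have k1 : ∀ x, ∀ v ∈ d.U, w' * w * d.ι x * v * (e' * e) = w' * w * v * (e' * e) * d.ι x := fun x v hv => by
      rw [mul_assoc _ (d.ι x), h.toUD.Z_comm (h.toUD.ι_mem x) hv, ← mul_assoc _ v, mul_assoc _ (d.ι x), ← c2,
        ← mul_assoc]
    rw [mulQ h hw' hu hu' he t', mulQ h hw hu' hu he' t, hp hw hu he t, hp hw' hu' he' t', h.abW hw hw',
      h.comm u hu u' hu', cE' hL (EC hL he) he', k1 _ _ (mul_mem (mul_mem hu' hu) (ιU hL _)),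
      k1 _ _ (mul_mem hu' hu), ← mul_assoc (w' * w), mul_assoc _ (d.ι _) (e' * e), ← c2, ← mul_assoc,
      mul_assoc _ (d.ι _) (d.ι _), mul_assoc _ (d.ι _) (d.ι _), ← h.ι_add, ← h.ι_add]
    congr 2
    simp only [QE.β, ← add_assoc, CharTwo.add_self_eq_zero, zero_add, mul_comm a', add_comm (d.B _ _)]
  · obtain ⟨w, hw, h1, h2⟩ := norF h hg
    have wU := centralizer_le_normalizer _ (h.cU hw)
    have h3 := h.norW _ h1 h2
    exact ⟨(mul_mem_cancel_left (inv_mem wU)).1 h2, (mul_mem_cancel_left (inv_mem (le_normalizer hw))).1 h3,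
      (mul_mem_cancel_left (inv_mem (le_normalizer (mem_sup_left (mem_sup_left hw))))).1 (nQ _ h3 h2 h1),
      w, hw, h1⟩
  · obtain ⟨κ, hκ⟩ := h.linW h1 h2 h3
    refine ⟨κ, fun w hw => ?_⟩
    obtain ⟨a, t⟩ := h.tlW w hw
    rw [pW hw t, hκ w hw a t]

omit h in
theorem jobEP : JobEP.{u} := fun _ _ _ _ _ _ _ _ _ _ _ _ d _ h => by
  obtain ⟨φ, s⟩ := exSu h
  obtain ⟨a, a0, a1⟩ := ex_ne d.toQE
  obtain ⟨x, hx, x1, x2⟩ := exH h a0
  exact ⟨_, _, exPE (exPW ⟨s, hx, a0, a1, x1, x2⟩)⟩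

end H15.BU.EP
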