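import Cfsg.Agent.H20.DGSpec
import Cfsg.Agent.H28.CharCenter
import Cfsg.Agent.H33.Ind

/-! # Tower DG (S3579): job T3 (every constituent meets an induced character). -/

set_option autoImplicit false
set_option maxHeartbeats 400000

namespace H15.DGT3

open Subgroup MulAction Cfsg H98 H20.DG H28
open scoped ComplexConjugate

universe u v

theorem inner_zero {C : Type*} [Group C] [Fintype C] {f ξ : C → ℂ} {z : C} {w : ℂ} (hw : w ≠ 1)
    (hf : ∀ c, f (z * c) = f c) (hξ : ∀ c, ξ (z * c) = w * ξ c) : classInner f ξ = 0 := by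
  have e : ∑ c, f c * conj (ξ c) = conj w * ∑ c, f c * conj (ξ c) := by
    conv_lhs => rw [← Equiv.sum_comp (Equiv.mulLeft z)]
    rw [Finset.mul_sum]
    refine Finset.sum_congr rfl fun c _ => ?_
    rw [Equiv.coe_mulLeft, hf, hξ, map_mul]
    ring
  have h1 : (1 - conj w) ≠ 0 := fun h => hw (by
    have := congrArg conj (sub_eq_zero.1 h)
    simpa using this.symm)
  have e2 : (1 - conj w) * ∑ c, f c * conj (ξ c) = 0 := by rw [sub_mul, one_mul, ← e, sub_self]
  rw [classInner_def, (mul_eq_zero.1 e2).resolve_left h1, mul_zero]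

theorem inner_ker {C : Type*} [Group C] [Fintype C] {f ξ : C → ℂ} (N : Subgroup C) [Fintype N]
    {n : ℂ} (h1 : ∀ c ∈ N, f c = n) (h0 : ∀ c, c ∉ N → f c = 0)
    (h : classInner (fun x : N => ξ x) (fun _ => 1) = 0) : classInner f ξ = 0 := by
  classical
  rw [classInner_one_right] at h
  have h2 : ∑ x : N, ξ x = 0 := (mul_eq_zero.1 h).resolve_left (inv_ne_zero (card_ne_zero' N))
  rw [← Finset.sum_subtype (Finset.univ.filter (· ∈ N)) (by simp) ξ] at h2
  have h3 : ∑ c, f c * conj (ξ c) = n * conj (∑ c ∈ Finset.univ.filter (· ∈ N), ξ c) := by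
    rw [map_sum, Finset.mul_sum, Finset.sum_filter]
    refine Finset.sum_congr rfl fun c _ => ?_
    split_ifs with hc
    · rw [h1 c hc]
    · rw [h0 c hc, zero_mul]
  rw [classInner_def, h3, h2, map_zero, mul_zero, mul_zero]

theorem jobT3 : JobT3.{u, v} := by
  intro G Ω _ _ _ _ _ p q P A L O hy cy hM χ hπ h1
  classical
  have : Fintype Ω := Fintype.ofFinite Ω
  by_contra hcon
  push Not at hcon
  have Ane : A ≠ ⊥ := fun e => by
    have := cy.cardA
    rw [e, card_bot] at this
    exact hy.pp.one_lt.ne this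
  obtain ⟨z, zA, z1⟩ := (A.bot_or_exists_ne_one).resolve_left Ane
  have zC : z ∈ Cn A := mem_centralizer_iff.2 fun a ha => cy.el.1 a ha z zA
  let z' : Cn A := ⟨z, zC⟩
  have zc : z' ∈ center (Cn A) := mem_center_iff.2 fun c =>
    Subtype.ext (mem_centralizer_iff.1 c.2 z zA).symm
  have hπc := H30.isCharacter_fixChar (G := G) Ω
  have hsub := hπc.sub_irr χ.2 hπ
  obtain ⟨τ, -, hτ⟩ := cy.tau
  have zK : z ∈ charKer (χ : G → ℂ) := by
    have hr := χ.2.isCharacter.restrict (Cn A)
    have : z' ∈ charKer (fun x : Cn A => (χ : G → ℂ) x) := by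
      refine hr.mem_charKer_iff_constituents.2 fun ξ hξ hne => ?_
      by_contra zn
      obtain ⟨w, hw⟩ := mem_charCenter_iff.1 (hξ.center_le_charCenter zc)
      have w1 : (w : ℂ) ≠ 1 := fun e => zn fun x => by rw [hw, e, one_mul]
      have n1 : classInner (fun x : Cn A => H30.fixChar G Ω x) ξ ≠ 0 := by
        have l := classInner_re_le_of_sub (χ := fun x : Cn A => H30.fixChar G Ω x)
          (ψ := fun x : Cn A => (χ : G → ℂ) x) (hsub.restrict (Cn A)) hξ.isCharacter
        obtain ⟨m, hm⟩ := hr.classInner_nat hξ.isCharacter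
        intro e
        rw [e, hm] at l
        have m0 : m = 0 := by
          have : (m : ℝ) ≤ 0 := by simpa using l
          exact_mod_cast le_antisymm this (Nat.cast_nonneg m)
        exact hne (by rw [hm, m0, Nat.cast_zero])
      let f1 : Cn A → ℂ := fun c => ∑ a : Ω, if a ∈ O ∧ (c : G) • a = a then 1 else 0
      let f2 : Cn A → ℂ := fun c => ∑ a : Ω, if a ∉ O ∧ (c : G) • a = a then 1 else 0
      have e12 : (fun x : Cn A => H30.fixChar G Ω x) = f1 + f2 := by
        funext c
        rw [H30.fixChar_eq_sum, Pi.add_apply, ← Finset.sum_add_distrib]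
        refine Finset.sum_congr rfl fun a _ => ?_
        by_cases ha : a ∈ O <;> simp [ha]
      have i2 : classInner f2 ξ = 0 := by
        refine inner_zero w1 (fun c => Finset.sum_congr rfl fun a _ => ?_) hw
        refine if_congr (and_congr_right fun ha => ?_) rfl rfl
        have : z⁻¹ • a = a := (cy.fix a).2 ha (inv_mem zA)
        show (z * (c : G)) • a = a ↔ _
        rw [mul_smul, smul_eq_iff_eq_inv_smul, this]
      have kk : τ.ker ≤ charKer ξ := by
        refine hξ.le_charKer_of_classInner_ne_zero τ.ker fun e => n1 ?_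
        rw [e12, classInner_add_left, i2, add_zero]
        refine inner_ker τ.ker (n := ∑ a : Ω, if a ∈ O then 1 else 0) (fun c hc => ?_)
          (fun c hc => ?_) e
        · refine Finset.sum_congr rfl fun a _ => if_congr (and_iff_left_of_imp fun ha => ?_) rfl rfl
          exact (cy.memL _).1 ((hτ c).1 hc) a ha
        · refine Finset.sum_eq_zero fun a _ => if_neg fun ha => ?_
          exact cy.mv c c.2 (fun hL => hc ((hτ c).2 hL)) a ha.1 ha.2
      have d1 : ξ 1 = 1 := hξ.degree_one_iff.2 ((Abelianization.commutator_subset_ker τ).trans kk)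
      obtain ⟨μ, rfl⟩ := hξ.isCharacter.exists_hom d1
      have mm : μ ∈ MM A L := by
        refine ⟨fun c hc => Units.ext ?_, z', zA, fun e => zn (hξ.mem_charKer.2 ?_)⟩
        · exact (apply_of_mem_charKer (kk ((hτ c).2 hc))).trans d1
        · show (μ z' : ℂ) = μ 1
          rw [e, map_one]
      have := hcon μ mm
      rw [II, H33.classInner_indFun_left _ _ χ.2.isClassFunction, classInner_eq_zero_comm] at this
      exact hne this
    exact χ.2.mem_charKer.2 (hr.mem_charKer.1 this)
  set K := charKer (χ : G → ℂ) with hK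
  have tr := hM K χ.2.charKer_normal (fun e => z1 (mem_bot.1 (e ▸ zK)))
  have : Nonempty Ω := hy.nonempty
  have : IsPretransitive G Ω := ⟨hy.trans⟩
  have : IsPretransitive K Ω := ⟨fun a b => let ⟨g, hg, e⟩ := tr a b; ⟨⟨g, hg⟩, e⟩⟩
  have c0 : classInner (χ : G → ℂ) (fun _ => 1) = 0 := by
    have := classInner_irr χ ⟨_, isIrrCharacter_one⟩
    rwa [if_neg fun e => h1 (congrArg Subtype.val e)] at this
  have s2 := hsub.sub_irr isIrrCharacter_one (by
    rw [classInner_sub_left, c0, H30.classInner_fixChar_one_of_transitive, sub_zero]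
    exact one_ne_zero)
  have l := (s2.restrict K).classInner_re_nonneg isCharacter_one
  have e : (fun x : K => (H30.fixChar G Ω - (χ : G → ℂ) - fun _ => 1 : G → ℂ) x) =
      H30.fixChar K Ω - (fun x : K => (χ : G → ℂ) x) - fun _ => 1 := rfl
  obtain ⟨n, hn, hd⟩ := χ.2.exists_degree_pos
  rw [e, classInner_sub_left, classInner_sub_left, H30.classInner_fixChar_one_of_transitive,
    classInner_one_one, classInner_restrict_one_of_le_charKer le_rfl, hd] at l
  have : (n : ℝ) ≤ 0 := by simpa using l
  have : (0 : ℝ) < n := Nat.cast_pos.2 hn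
  linarith

end H15.DGT3
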