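import Cfsg.Agent.H26.DP0ASpec
import Cfsg.Agent.H14.Rel

/-! # S3275, chapter U0, section A: job W1 (`y` permutes three components). -/

set_option autoImplicit false
set_option maxHeartbeats 400000

namespace H15.DPW1

open Subgroup Cfsg H98 H48.DP H57.DPC H48.DP2 H26.DA

universe u

theorem three_cases {G : Type u} [Group G] {y u : G} (h3 : y ^ 3 = 1) (hu : u ∈ zpowers y) :
    u = 1 ∨ u = y ∨ u = y * y := by
  obtain ⟨i, rfl⟩ := hu
  show y ^ i = 1 ∨ y ^ i = y ∨ y ^ i = y * y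
  rw [zpow_eq_zpow_emod' i h3]
  have : i % ((3 : ℕ) : ℤ) = 0 ∨ i % ((3 : ℕ) : ℤ) = 1 ∨ i % ((3 : ℕ) : ℤ) = 2 := by omega
  rcases this with e | e | e <;> rw [e]
  · exact Or.inl (zpow_zero y)
  · exact Or.inr (Or.inl (zpow_one y))
  · exact Or.inr (Or.inr (zpow_two y))

theorem jobW1 : JobW1.{u} := by
  intro ca G _ _ P K y z h hK yK
  have hz : z ∈ No K := (ca G P K y z h hK).1
  have cm := (h.str.cm K hK).2
  obtain ⟨a, aK, hc⟩ := cm.inn z hz
  have y3 : y ^ 3 = 1 := h.y3 ▸ pow_orderOf_eq_one y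
  have z3 : z ^ 3 = 1 := h.z3 ▸ pow_orderOf_eq_one z
  have yyyy : y * y * (y * y) = y := by
    calc y * y * (y * y) = y ^ 3 * y := by simp only [pow_succ, pow_zero, one_mul, mul_assoc]
      _ = y := by rw [y3, one_mul]
  have cK : ∀ {k c : G}, k ∈ K → c ∈ Ce K → Commute k c := fun hk hc =>
    mem_centralizer_iff.1 hc _ hk
  have spl : ∀ {k c k' c' : G}, k ∈ K → c ∈ Ce K → k' ∈ K → c' ∈ Ce K → k * c = k' * c' →
      k = k' := by
    intro k c k' c' hk hc hk' hc' e
    have e1 : k'⁻¹ * k = c' * c⁻¹ := by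
      calc k'⁻¹ * k = k'⁻¹ * (k * c) * c⁻¹ := by group
        _ = c' * c⁻¹ := by rw [e]; group
    have m : k'⁻¹ * k ∈ K ⊓ Ce K :=
      mem_inf.2 ⟨mul_mem (inv_mem hk') hk, e1 ▸ mul_mem hc' (inv_mem hc)⟩
    rw [cm.sm.cen, mem_bot] at m
    exact (inv_mul_eq_one.1 m).symm
  have zac : z = a * (a⁻¹ * z) := by group
  have ac := cK aK hc
  have a3 : a ^ 3 = 1 := by
    refine spl (pow_mem aK 3) (pow_mem hc 3) (one_mem _) (one_mem _) ?_
    rw [← ac.mul_pow, ← zac, z3, one_mul]
  have yz : Commute y z := mem_centralizer_singleton_iff.1 (h.cz h.yP)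
  have eN : ∀ e ∈ zpowers y ⊔ zpowers z, e ∈ No K → e ∈ zpowers z := by
    intro e he heN
    have nn : zpowers y ≤ normalizer (zpowers z : Set G) := by
      refine le_normalizer_of_le_centralizer (zpowers_le.2 (mem_centralizer_iff.2 ?_))
      rintro _ ⟨j, rfl⟩
      exact (yz.symm.zpow_left j).eq
    obtain ⟨u, hu, v, hv, rfl⟩ := (mem_sup_left_norm nn).1 he
    have uN : u ∈ No K := by
      have := mul_mem heN (inv_mem (zpowers_le.2 hz hv))
      rwa [mul_inv_cancel_right] at this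
    rcases three_cases y3 hu with rfl | rfl | rfl
    · rwa [one_mul]
    · exact absurd uN yK
    · exact absurd (yyyy ▸ mul_mem uN uN) yK
  have cp : H14.CP K ⊤ := H14.cp_iff.2 hK
  have tn : ∀ g : G, g ∈ normalizer ((⊤ : Subgroup G) : Set G) := fun g =>
    le_normalizer (mem_top g)
  have cen : ∀ g : G, g ∉ No K → ∀ w ∈ K, g * w * g⁻¹ ∈ Ce K := by
    intro g hg w hw
    rcases cp.eq_or_commute (cp.cj_of_mem_normalizer (tn g)) with e | e
    · exact absurd (cj_eq_self_iff.1 e.symm) hg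
    · rw [commutator_comm, commutator_eq_bot_iff_le_centralizer] at e
      exact e (conj_mem_cj hw)
  have yyK : y * y ∉ No K := fun hh => yK (yyyy ▸ mul_mem hh hh)
  have key : ∀ w ∈ K, w ^ 3 = 1 → Commute w a →
      w = 1 ∨ (w = a ∧ z = w * (y * w * y⁻¹) * (y * y * w * (y * y)⁻¹)) ∨ w = a * a := by
    intro w hw w3 wa
    have m2 := cen y yK w hw
    have m3 := cen (y * y) yyK w hw
    have c12 := cK hw m2
    have c13 := cK hw m3
    have c23 : Commute (y * w * y⁻¹) (y * y * w * (y * y)⁻¹) := by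
      have := c12.conj y
      rwa [show y * (y * w * y⁻¹) * y⁻¹ = y * y * w * (y * y)⁻¹ by group] at this
    have wz : Commute w z := by
      rw [zac]; exact wa.mul_right (cK hw hc)
    have cz : ∀ g : G, Commute g z → Commute (g * w * g⁻¹) z := fun g hg =>
      (hg.mul_left wz).mul_left hg.inv_left
    have d3 : (w * (y * w * y⁻¹) * (y * y * w * (y * y)⁻¹)) ^ 3 = 1 := by
      rw [(c13.mul_left c23).mul_pow, c12.mul_pow, conj_pow, conj_pow, w3]; group
    have dy : Commute (w * (y * w * y⁻¹) * (y * y * w * (y * y)⁻¹)) y := by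
      have e1 : y * (w * (y * w * y⁻¹) * (y * y * w * (y * y)⁻¹)) * y⁻¹ =
          (y * w * y⁻¹) * (y * y * w * (y * y)⁻¹) * (y ^ 3 * w * (y ^ 3)⁻¹) := by
        simp only [pow_succ, pow_zero, one_mul]; group
      rw [y3, one_mul, inv_one, mul_one, ← (c12.mul_right c13).eq, mul_inv_eq_iff_eq_mul,
        ← mul_assoc w (y * w * y⁻¹) (y * y * w * (y * y)⁻¹)] at e1
      exact e1.symm
    have dz : Commute (w * (y * w * y⁻¹) * (y * y * w * (y * y)⁻¹)) z :=
      (wz.mul_left (cz y yz)).mul_left (cz _ (yz.mul_left yz))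
    have dN : w * (y * w * y⁻¹) * (y * y * w * (y * y)⁻¹) ∈ No K :=
      mul_mem (mul_mem (le_normalizer hw) (centralizer_le_normalizer _ m2))
        (centralizer_le_normalizer _ m3)
    have m23 := mul_mem m2 m3
    rcases three_cases z3 (eN _ (h.st _ d3 dy dz) dN) with e | e | e
    · left
      exact spl hw m23 (one_mem _) (one_mem _) (by rw [← mul_assoc, e, one_mul])
    · right; left
      exact ⟨spl hw m23 aK hc (by rw [← mul_assoc, e, ← zac]), e.symm⟩
    · right; right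
      refine spl hw m23 (mul_mem aK aK) (mul_mem hc hc) ?_
      rw [← mul_assoc, e, ← pow_two, ← pow_two, ← pow_two, ← ac.mul_pow, ← zac]
  have hca : ∀ w ∈ K, w ^ 3 = 1 → Commute w a → w ∈ zpowers a := by
    intro w hw w3 wa
    rcases key w hw w3 wa with e | ⟨e, -⟩ | e <;> rw [e]
    · exact one_mem _
    · exact mem_zpowers a
    · exact mul_mem (mem_zpowers a) (mem_zpowers a)
  have a1 : a ≠ 1 := by
    rintro rfl
    obtain ⟨-, -, w, hw, -, -, o3, -⟩ := cm.sm.loc
    have := hca w hw (o3 ▸ pow_orderOf_eq_one w) (Commute.one_right w)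
    rw [zpowers_one_eq_bot, mem_bot] at this
    rw [this, orderOf_one] at o3
    omega
  have : Fact (Nat.Prime 3) := ⟨Nat.prime_three⟩
  refine ⟨a, h, hK, yK, aK, orderOf_eq_prime a3 a1, ?_, hc, hca, eN⟩
  rcases key a aK a3 (Commute.refl a) with e | ⟨-, e⟩ | e
  · exact absurd e a1
  · exact e
  · exact absurd (by simpa using e) a1

end H15.DPW1
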