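import Cfsg.Agent.H15.FSHZ2A
import Cfsg.Agent.H82.FSSpec3

/-! Tower FS, slot HZ2. -/

set_option autoImplicit false
set_option maxHeartbeats 400000

namespace H15.FS

open Subgroup MulAction H82.FS
open scoped commutatorElement Pointwise

universe u v

section
variable {X : Type u} [Group X] {Ω : Type v} [MulAction X Ω] {T : Subgroup X}

theorem Zc_cj [T.Normal] {δ : Ω} {z : X} (h : Zc T δ z) (g : X) : Zc T (g • δ) (g * z * g⁻¹) := by
  refine ⟨Normal.conj_mem inferInstance _ h.1 g, by rw [mul_smul, mul_smul, inv_smul_smul, h.2.1],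
    fun t ht e => ?_⟩
  have := h.2.2 (g⁻¹ * t * g) (Normal.conj_mem' inferInstance _ ht g) (by
    rw [mul_smul, mul_smul, e, inv_smul_smul])
  show _ * _ = _ * _
  calc g * z * g⁻¹ * t = g * (z * (g⁻¹ * t * g)) * g⁻¹ := by group
    _ = _ := by rw [this.eq]; group

/-- `T_{αβ}` -/
def T2 (T : Subgroup X) (α β : Ω) : Subgroup X := T ⊓ stabilizer X α ⊓ stabilizer X β

theorem mem_T2 {α β : Ω} {u : X} : u ∈ T2 T α β ↔ (u ∈ T ∧ u • α = α) ∧ u • β = β := Iff.rfl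

theorem cj_T2 [T.Normal] (α β : Ω) (h : X) : cj h (T2 T α β) ≤ T2 T (h • α) (h • β) := by
  rintro _ ⟨u, hu, rfl⟩
  refine mem_T2.2 ⟨⟨Normal.conj_mem inferInstance _ hu.1.1 h, ?_⟩, ?_⟩
  · show (h * u * h⁻¹) • _ = _
    rw [mul_smul, mul_smul, inv_smul_smul, (mem_T2.1 hu).1.2]
  · show (h * u * h⁻¹) • _ = _
    rw [mul_smul, mul_smul, inv_smul_smul, (mem_T2.1 hu).2]

theorem card_T2 [Finite X] [T.Normal] (α β : Ω) (h : X) :
    Nat.card (T2 T α β) ≤ Nat.card (T2 T (h • α) (h • β)) :=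
  (card_map_of_injective (MulAut.conj h).injective).ge.trans (card_le_of_le (cj_T2 α β h))

/-- the fixed points of `U` -/
def Fx (Ω : Type v) [MulAction X Ω] (U : Subgroup X) : SubMulAction (normalizer (U : Set X)) Ω where
  carrier := {δ | ∀ u ∈ U, u • δ = δ}
  smul_mem' := fun n δ h u hu => by
    show u • (n : X) • δ = (n : X) • δ
    rw [← inv_smul_eq_iff, ← mul_smul, ← mul_smul]
    exact h _ ((mem_normalizer_iff''.1 n.2 u).1 hu)

/-- the elements of order dividing `p` in `Z(T_γ)` -/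
def Qz (T : Subgroup X) (γ : Ω) (p : ℕ) : Subgroup X where
  carrier := {z | Zc T γ z ∧ z ^ p = 1}
  one_mem' := ⟨⟨one_mem _, one_smul _ _, fun t _ _ => Commute.one_left t⟩, one_pow _⟩
  mul_mem' := fun {a b} ha hb => ⟨⟨mul_mem ha.1.1 hb.1.1, by rw [mul_smul, hb.1.2.1, ha.1.2.1],
    fun t ht e => (ha.1.2.2 t ht e).mul_left (hb.1.2.2 t ht e)⟩, by
      rw [(ha.1.2.2 b hb.1.1 hb.1.2.1).mul_pow, ha.2, hb.2, one_mul]⟩
  inv_mem' := fun {a} ha => ⟨⟨inv_mem ha.1.1, inv_smul_eq_iff.2 ha.1.2.1.symm,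
    fun t ht e => (ha.1.2.2 t ht e).inv_left⟩, by rw [inv_pow, ha.2, inv_one]⟩

end

theorem fin {X : Type u} [Group X] {R : Subgroup X} {x k g : X} {p r : ℕ} (hp : p.Prime) (hr : r.Prime)
    (ne : r ≠ p) (hR : IsPGroup r R) (hx : x ^ p = 1) (hn : x ∈ normalizer (R : Set X)) (hk : k ∈ R)
    (e : cj g (zpowers x) = zpowers (k * x * k⁻¹)) :
    IsPGroup r (kl (zpowers x) g) ∧ cj g (zpowers x) ≤ kl (zpowers x) g ⊔ zpowers x := by
  have hρ : k * x * k⁻¹ * x⁻¹ ∈ R := by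
    have := mul_mem hk ((mem_normalizer_iff.1 hn _).1 (inv_mem hk))
    rwa [← mul_assoc, ← mul_assoc] at this
  have xL : x ∈ ln (zpowers x) g := mem_sup_left (mem_zpowers x)
  have yL : k * x * k⁻¹ ∈ ln (zpowers x) g := mem_sup_right (e ▸ mem_zpowers _)
  refine ⟨hR.to_le ?_, ?_⟩
  · have hN : R ⊔ zpowers x ≤ normalizer (R : Set X) := sup_le le_normalizer (zpowers_le.2 hn)
    have le : ln (zpowers x) g ≤ R ⊔ zpowers x := sup_le le_sup_right (e ▸ zpowers_le.2 (by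
      simpa using mul_mem (mem_sup_left hρ : _ ∈ R ⊔ zpowers x) (mem_sup_right (mem_zpowers x))))
    have dec : ∀ a ∈ R ⊔ zpowers x, ∃ i : ℤ, a * (x ^ i)⁻¹ ∈ R := fun a ha => by
      have : a ∈ (R : Set X) * (zpowers x : Set X) :=
        (coe_mul_of_right_le_normalizer_left R (zpowers x) (zpowers_le.2 hn)).le ha
      obtain ⟨b, hb, _, ⟨i, rfl⟩, rfl⟩ := this
      exact ⟨i, by simpa using hb⟩
    refine commutator_le.2 fun a ha b hb => ?_
    obtain ⟨i, hi⟩ := dec a (le ha)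
    obtain ⟨j, hj⟩ := dec b (le hb)
    have n := fun i : ℤ => mem_normalizer_iff.1 (zpow_mem hn i)
    have := mul_mem (mul_mem (mul_mem hi ((n i _).1 hj)) ((n j _).1 (inv_mem hi))) (inv_mem hj)
    convert this using 1
    rw [commutatorElement_def]; group
  · rw [e, zpowers_le]
    suffices h : k * x * k⁻¹ * x⁻¹ ∈ kl (zpowers x) g by
      simpa using mul_mem (mem_sup_left h : _ ∈ kl (zpowers x) g ⊔ zpowers x)
        (mem_sup_right (mem_zpowers x))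
    rw [kl, ← map_subtype_commutator]
    refine ⟨⟨_, yL⟩ * ⟨x, xL⟩⁻¹, ?_, rfl⟩
    rw [SetLike.mem_coe, ← Abelianization.ker_of, MonoidHom.mem_ker]
    obtain ⟨n, hn⟩ := hR ⟨_, hρ⟩
    refine pow_eq_one_iff_of_coprime ((Nat.coprime_primes hp hr).2 ne.symm |>.pow_right n) |>.1 ⟨?_, ?_⟩
    · rw [map_mul, map_inv, mul_pow, inv_pow, ← map_pow, ← map_pow,
        show (⟨_, yL⟩ : ln (zpowers x) g) ^ p = 1 from Subtype.ext (by simp [conj_pow, hx]),
        show (⟨x, xL⟩ : ln (zpowers x) g) ^ p = 1 from Subtype.ext hx]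
      simp
    · rw [← map_pow, show (⟨_, yL⟩ * ⟨x, xL⟩⁻¹ : ln (zpowers x) g) ^ r ^ n = 1 from
        Subtype.ext (congrArg (fun y : R => (y : X)) hn), map_one]

theorem jobHZ2 : JobHZ2.{u, v} := by
  intro X _ _ Ω _ _ _ h2 T hT H1 p γ x hp hx ho g hg
  haveI := Fact.mk hp
  set U := T2 T γ (g • γ) with hU
  have xp : x ^ p = 1 := ho ▸ pow_orderOf_eq_one x
  have x1 : x ≠ 1 := fun e => hp.ne_one (by rw [← ho, e, orderOf_one])
  have γF : γ ∈ Fx Ω U := fun u hu => hu.1.2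
  have βF : g • γ ∈ Fx Ω U := fun u hu => hu.2
  have eqU : ∀ δ ∈ Fx Ω U, ∀ δ' ∈ Fx Ω U, δ ≠ δ' → U = T2 T δ δ' := fun δ h δ' h' n => by
    obtain ⟨k, e1, e2⟩ := is_two_pretransitive_iff.1 h2 n hg.symm
    exact eq_of_le_of_card_ge (fun u hu => ⟨⟨hu.1.1, h u hu⟩, h' u hu⟩)
      (by have := card_T2 (T := T) δ δ' k; rwa [e1, e2] at this)
  have t2 : IsMultiplyPretransitive (normalizer (U : Set X)) (Fx Ω U) 2 :=
    is_two_pretransitive_iff.2 fun {a b c d} n1 n2 => by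
      have n1' : (a : Ω) ≠ b := fun e => n1 (Subtype.ext e)
      have n2' : (c : Ω) ≠ d := fun e => n2 (Subtype.ext e)
      obtain ⟨k, e1, e2⟩ := is_two_pretransitive_iff.1 h2 n1' n2'
      refine ⟨⟨k, mem_normalizer_fintype fun u hu => ?_⟩, Subtype.ext e1, Subtype.ext e2⟩
      have := cj_T2 (T := T) (a : Ω) b k (mem_map_of_mem _ (eqU a a.2 b b.2 n1' ▸ hu))
      rwa [e1, e2, ← eqU c c.2 d d.2 n2'] at this
  have zM : ∀ z, Zc T γ z → z ∈ T ⊓ centralizer (U : Set X) := fun z hz =>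
    ⟨hz.1, fun u hu => (hz.2.2 u hu.1.1 hu.1.2).symm.eq⟩
  have MN : T ⊓ centralizer (U : Set X) ≤ normalizer (U : Set X) :=
    inf_le_right.trans (centralizer_le_normalizer _)
  haveI : ((T ⊓ centralizer (U : Set X)).subgroupOf (normalizer (U : Set X))).Normal := by
    rw [subgroupOf, comap_inf]
    haveI : ((centralizer (U : Set X)).comap (normalizer (U : Set X)).subtype).Normal :=
      normal_subgroupOf_centralizer_normalizer _
    infer_instance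
  obtain ⟨K, r, k1, k2, hr, k3, k4, k5, k6, k7⟩ := frob t2
    ((T ⊓ centralizer (U : Set X)).subgroupOf (normalizer (U : Set X)))
    (fun m hm α β e1 e2 n ω => Subtype.ext (ω.2 m ((eqU α α.2 β β.2 (fun e => n (Subtype.ext e))).ge
      ⟨⟨hm.1, congrArg Subtype.val e1⟩, congrArg Subtype.val e2⟩)))
    (a := ⟨x, MN (zM x hx)⟩) (zM x hx) (γ := ⟨γ, γF⟩) (β := ⟨g • γ, βF⟩) (Subtype.ext hx.2.1)
    (fun e => hg (H1 γ x hx x1 _ (congrArg Subtype.val e)))
  have QN : Qz T γ p ≤ normalizer (U : Set X) := fun z hz => MN (zM z hz.1)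
  have cy : IsCyclic (Qz T γ p) := by
    have := k7 ((Qz T γ p).subgroupOf _) ⟨⟨fun a b => Subtype.ext (Subtype.ext
      (a.2.1.2.2 b.1.1 b.2.1.1 b.2.1.2.1).eq)⟩⟩ (fun q hq => Subtype.ext hq.1.2.1)
      fun q hq n ω e => Subtype.ext (H1 γ q hq.1 (fun e => n (Subtype.ext e)) ω (congrArg Subtype.val e))
    exact (subgroupOfEquivOfLe QN).isCyclic.1 this
  have hQ : ∀ z, Zc T γ z → z ^ p = 1 → z ∈ zpowers x := fun z hz e => by
    have le : zpowers x ≤ Qz T γ p := zpowers_le.2 ⟨hx, xp⟩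
    refine (eq_of_le_of_card_ge le ?_).ge (show z ∈ Qz T γ p from ⟨hz, e⟩)
    rw [Nat.card_zpowers, ho, ← IsCyclic.exponent_eq_card]
    exact Nat.le_of_dvd hp.pos (Monoid.exponent_dvd_of_forall_pow_eq_one fun q => Subtype.ext q.2.2)
  have rp : r ≠ p := by
    rintro rfl
    have hA : IsPGroup r (zpowers (⟨x, MN (zM x hx)⟩ : normalizer (U : Set X))) :=
      IsPGroup.of_card (n := 1) (by rw [Nat.card_zpowers, pow_one, ← ho, ← orderOf_coe])
    have := hA.card_modEq_card_fixedPoints (Fx Ω U)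
    rw [show fixedPoints (zpowers (⟨x, MN (zM x hx)⟩ : normalizer (U : Set X))) (Fx Ω U) = {⟨γ, γF⟩} from
      Set.eq_singleton_iff_unique_mem.2 ⟨?_, fun ω h => Subtype.ext (H1 γ x hx x1 _
        (congrArg Subtype.val (h ⟨_, mem_zpowers _⟩)))⟩, Nat.card_coe_set_eq, Set.ncard_singleton] at this
    · exact hr.ne_one (Nat.dvd_one.1 ((this.dvd_iff dvd_rfl).1 k3))
    · rintro ⟨_, n, rfl⟩
      exact zpow_mem (show (⟨x, MN (zM x hx)⟩ : normalizer (U : Set X)) ∈ stabilizer _ (⟨γ, γF⟩ : Fx Ω U)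
        from Subtype.ext hx.2.1) n
  have inU : ∀ k : normalizer (U : Set X), (k : X) ∈ T → (∀ ω : Fx Ω U, k • ω = ω) → (k : X) ∈ U :=
    fun k hk h => ⟨⟨hk, congrArg Subtype.val (h ⟨γ, γF⟩)⟩, congrArg Subtype.val (h ⟨_, βF⟩)⟩
  obtain ⟨R, hR⟩ := exists_R (K.map (normalizer (U : Set X)).subtype) hr (by
    rintro _ ⟨a, ha, rfl⟩ _ ⟨b, hb, rfl⟩ _ ⟨c, hc, rfl⟩
    rw [← map_commutatorElement]
    exact (k2 hc).2 _ (inU _ (k2 (commutator_le_right K K (commutator_mem_commutator ha hb))).1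
      (k6 a ha b hb)))
  obtain ⟨k, hk, ek⟩ := k4 ⟨γ, γF⟩ ⟨_, βF⟩
  have ek' : (k : X) • γ = g • γ := congrArg Subtype.val ek
  obtain ⟨a, m, hm, om⟩ := Nat.exists_eq_pow_mul_and_not_dvd (orderOf_pos (k : X)).ne' r hr.ne_one
  obtain ⟨s, hs⟩ := Nat.exists_mul_mod_eq_one_of_coprime ((Nat.coprime_comm.1
    ((Nat.Prime.coprime_iff_not_dvd hr).2 hm))) hr.one_lt
  have kr : Commute x ((k : X) ^ r) :=
    hx.2.2 _ (pow_mem (k2 hk).1 r) (inU (k ^ r) (pow_mem (k2 hk).1 r) (k5 k hk)).1.2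
  have e1 : (k : X) ^ (m * s) * x * ((k : X) ^ (m * s))⁻¹ = k * x * (k : X)⁻¹ := by
    rw [← Nat.mod_add_div (m * s) r, hs.2, pow_add, pow_one, pow_mul, mul_assoc (k : X),
      ← (kr.pow_right _).eq]
    group
  refine ⟨hQ, r, hr, rp, fin (R := R) (k := (k : X) ^ (m * s)) hp hr rp
    (fun y => let ⟨n, e⟩ := ((hR y).1 y.2).2; ⟨n, Subtype.ext e⟩) xp
    (mem_normalizer_fintype fun y hy => ?_) ((hR _).2 ⟨pow_mem (mem_map_of_mem _ hk) _, a, ?_⟩) ?_⟩
  · obtain ⟨⟨y, h1, rfl⟩, n, e⟩ := (hR y).1 hy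
    refine (hR _).2 ⟨⟨_, k1.conj_mem y h1 ⟨x, MN (zM x hx)⟩, rfl⟩, n, ?_⟩
    rw [conj_pow, e]; group
  · rw [← pow_mul, show m * s * r ^ a = r ^ a * m * s by ring, ← om, pow_mul, pow_orderOf_eq_one, one_pow]
  · rw [e1]
    refine (eq_of_le_of_card_ge (zpowers_le.2 ?_) ?_).symm
    · have := Zc_cj (Zc_cj hx k) g⁻¹
      rw [ek', inv_smul_smul] at this
      exact ⟨_, hQ _ this (by rw [conj_pow, conj_pow, xp]; group), by simp [mul_assoc]⟩
    · rw [card_map_of_injective (MulAut.conj g).injective, Nat.card_zpowers, Nat.card_zpowers]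
      exact (orderOf_injective (MulAut.conj (k : X)).toMonoidHom (MulAut.conj (k : X)).injective x).ge

end H15.FS
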