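import Cfsg.Agent.S0035
import Cfsg.Agent.S4252
import Cfsg.Agent.S0054
import Cfsg.Agent.H46.Coprime

/-! Tower FS, slot HZ2: a normal Frobenius subgroup of a doubly transitive group. -/

set_option autoImplicit false
set_option maxHeartbeats 400000

namespace H15.FS

open Subgroup MulAction
open scoped commutatorElement

universe u v

/-- the faithful case -/
theorem frob0 {Y : Type u} [Group Y] [Finite Y] {F : Type v} [Finite F] [MulAction Y F]
    (h2 : IsMultiplyPretransitive Y F 2) (M : Subgroup Y) [M.Normal]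
    (hM : ∀ m ∈ M, ∀ α β : F, m • α = α → m • β = β → α ≠ β → m = 1) {a : Y} (ha : a ∈ M) {γ β : F}
    (h1 : a • γ = γ) (h3 : a • β ≠ β) :
    ∃ (K : Subgroup Y) (r : ℕ), K.Normal ∧ K ≤ M ∧ r.Prime ∧ (∀ α β : F, ∃ k ∈ K, k • α = β) ∧
      (∀ k ∈ K, ∀ α : F, k • α = α → k = 1) ∧ (∀ k ∈ K, k ^ r = 1) ∧ IsMulCommutative K := by
  classical
  have := Fintype.ofFinite F
  have := isPreprimitive_of_is_two_pretransitive h2
  have tr : IsPretransitive M F := IsQuasiPreprimitive.isPretransitive_of_normal fun e =>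
    h3 ((e.ge (Set.mem_univ β)) ⟨a, ha⟩)
  have ne : γ ≠ β := fun e => h3 (e ▸ h1)
  obtain ⟨c1, c2⟩ := Cfsg.Agent.S4252.result (G := M) (Ω := F) (Fintype.one_lt_card_iff.2 ⟨_, _, ne⟩)
    tr.exists_smul_eq ⟨⟨a, ha⟩, fun e => h3 (by rw [show a = 1 from congrArg Subtype.val e, one_smul]),
      γ, h1⟩ (fun g hg α β e1 e2 => by_contra fun n => hg (Subtype.ext (hM g g.2 α β e1 e2 n))) γ
  obtain ⟨K, k1, -, k3⟩ := Cfsg.Agent.S0035.result _ c1
  rw [c2] at k1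
  have mem : ∀ k, k ∈ K.map M.subtype ↔ k ∈ M ∧ (k = 1 ∨ ∀ ω : F, k • ω ≠ ω) := fun k => by
    constructor
    · rintro ⟨k, hk, rfl⟩
      exact ⟨k.2, (k1.le hk).imp_left (congrArg Subtype.val)⟩
    · rintro ⟨h, h'⟩
      exact ⟨⟨k, h⟩, k1.ge (h'.imp_left Subtype.ext), rfl⟩
  have nor : (K.map M.subtype).Normal := ⟨fun k hk g => by
    rw [mem] at hk ⊢
    refine ⟨Normal.conj_mem inferInstance _ hk.1 g, hk.2.imp (fun e => by simp [e]) fun h ω e => ?_⟩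
    exact h (g⁻¹ • ω) (by rw [eq_inv_smul_iff, ← mul_smul, ← mul_smul, e])⟩
  have t0 : ∀ δ : F, ∃ k ∈ K.map M.subtype, k • γ = δ := fun δ => by
    obtain ⟨m, rfl⟩ := tr.exists_smul_eq γ δ
    obtain ⟨⟨k, s⟩, rfl⟩ := k3.2 m
    exact ⟨_, mem_map_of_mem _ k.2, by
      show _ = ((k : M) * s) • γ
      rw [mul_smul, show (s : M) • γ = γ from s.2]; rfl⟩
  have t1 : ∀ α β : F, ∃ k ∈ K.map M.subtype, k • α = β := fun α β => by
    obtain ⟨k, hk, rfl⟩ := t0 α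
    obtain ⟨k', hk', rfl⟩ := t0 β
    exact ⟨k' * k⁻¹, mul_mem hk' (inv_mem hk), by rw [mul_smul, inv_smul_smul]⟩
  have reg : ∀ k ∈ K.map M.subtype, ∀ α : F, k • α = α → k = 1 := fun k hk α e =>
    ((mem k).1 hk).2.resolve_right fun h => h α e
  haveI : Nonempty F := ⟨γ⟩
  obtain ⟨cm, r, hr, ex⟩ := Cfsg.Agent.S0054.result h2 (K.map M.subtype)
    ⟨fun α β => let ⟨k, hk, e⟩ := t1 α β; ⟨⟨k, hk⟩, e⟩⟩
    fun x => eq_bot_iff.2 fun k hk => Subtype.ext (reg k k.2 x hk)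
  exact ⟨_, r, nor, map_subtype_le _, hr, t1, reg, ex, cm⟩

/-- the general case -/
theorem frob {Y : Type u} [Group Y] [Finite Y] {F : Type v} [Finite F] [MulAction Y F]
    (h2 : IsMultiplyPretransitive Y F 2) (M : Subgroup Y) [M.Normal]
    (hM : ∀ m ∈ M, ∀ α β : F, m • α = α → m • β = β → α ≠ β → ∀ ω : F, m • ω = ω) {a : Y} (ha : a ∈ M)
    {γ β : F} (h1 : a • γ = γ) (h3 : a • β ≠ β) :
    ∃ (K : Subgroup Y) (r : ℕ), K.Normal ∧ K ≤ M ∧ r.Prime ∧ r ∣ Nat.card F ∧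
      (∀ α β : F, ∃ k ∈ K, k • α = β) ∧ (∀ k ∈ K, ∀ ω : F, k ^ r • ω = ω) ∧
      (∀ k ∈ K, ∀ k' ∈ K, ∀ ω : F, ⁅k, k'⁆ • ω = ω) ∧
      ∀ Q : Subgroup Y, IsMulCommutative Q → (∀ q ∈ Q, q • γ = γ) →
        (∀ q ∈ Q, q ≠ 1 → ∀ ω : F, q • ω = ω → ω = γ) → IsCyclic Q := by
  let φ := (toPermHom Y F).rangeRestrict
  have sj : Function.Surjective φ := (toPermHom Y F).rangeRestrict_surjective
  have act : ∀ (y : Y) (ω : F), φ y • ω = y • ω := fun _ _ => rfl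
  have one : ∀ y : Y, φ y = 1 ↔ ∀ ω : F, y • ω = ω := fun y =>
    ⟨fun e ω => by rw [← act, e, one_smul], fun h => Subtype.ext (Equiv.ext h)⟩
  have ne : γ ≠ β := fun e => h3 (e ▸ h1)
  haveI := (inferInstance : M.Normal).map φ sj
  obtain ⟨K, r, k1, k2, hr, k3, k4, k5, k6⟩ := frob0 (Y := (toPermHom Y F).range) (F := F)
    (is_two_pretransitive_iff.2 fun e1 e2 =>
      let ⟨g, e⟩ := is_two_pretransitive_iff.1 h2 e1 e2; ⟨φ g, e⟩) (M.map φ)
    (by rintro _ ⟨m, hm, rfl⟩ α β e1 e2 n; exact (one m).2 (hM m hm α β e1 e2 n))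
    (mem_map_of_mem φ ha) (γ := γ) (β := β) h1 h3
  haveI := Fact.mk hr
  refine ⟨K.comap φ ⊓ M, r, inferInstance, inf_le_right, hr, ?_, fun α β => ?_, fun k hk => ?_,
    fun k hk k' hk' => ?_, fun Q q1 q2 q3 => ?_⟩
  · have hK : IsPGroup r K := fun k => ⟨1, Subtype.ext (by simpa using k5 k k.2)⟩
    have := hK.card_modEq_card_fixedPoints F
    rw [show fixedPoints K F = ∅ from Set.eq_empty_of_forall_notMem fun ω h => ?_] at this
    · simpa [Nat.modEq_zero_iff_dvd] using this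
    obtain ⟨k, hk, e⟩ := k3 ω γ
    obtain ⟨k', hk', e'⟩ := k3 ω β
    exact ne (e.symm.trans ((h ⟨k, hk⟩).trans ((h ⟨k', hk'⟩).symm.trans e')))
  · obtain ⟨k, hk, e⟩ := k3 α β
    obtain ⟨m, hm, rfl⟩ := k2 hk
    exact ⟨m, ⟨hk, hm⟩, e⟩
  · exact (one _).1 (by rw [map_pow]; exact k5 _ hk.1)
  · refine (one _).1 ?_
    rw [map_commutatorElement, commutatorElement_eq_one_iff_mul_comm]
    exact congrArg Subtype.val (k6.is_comm.comm (⟨_, hk.1⟩ : K) ⟨_, hk'.1⟩)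
  · have cy : IsCyclic (Q.map φ) := by
      refine H46.Semiregular.cyclic_of_comm (K := K) ?_ (by rw [H46.Nrm, normalizer_eq_top]; exact le_top)
        (fun e => ?_) inferInstance
      · rintro _ ⟨q, hq, rfl⟩ n
        refine eq_bot_iff.2 fun k hk => k4 k hk.1 γ (q3 q hq (fun e => n (by rw [e, map_one])) _ ?_)
        rw [← act, ← mul_smul, ← mem_centralizer_singleton_iff.1 hk.2, mul_smul, act, q2 q hq]
      · obtain ⟨k, hk, e'⟩ := k3 γ β
        rw [e, mem_bot] at hk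
        exact ne (by rw [← e', hk, one_smul])
    refine isCyclic_of_injective (φ.subgroupMap Q) ((injective_iff_map_eq_one _).2 fun q e => ?_)
    by_contra n
    exact ne (q3 q q.2 (fun e => n (Subtype.ext e)) β ((one q).1 (congrArg Subtype.val e) β)).symm

/-- the `r`-elements of a group that is central-by-abelian -/
theorem exists_R {X : Type u} [Group X] [Finite X] (K : Subgroup X) {r : ℕ} (hr : r.Prime)
    (h : ∀ a ∈ K, ∀ b ∈ K, ∀ c ∈ K, Commute ⁅a, b⁆ c) :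
    ∃ R : Subgroup X, ∀ k, k ∈ R ↔ k ∈ K ∧ ∃ n, k ^ r ^ n = 1 := by
  haveI := Fact.mk hr
  haveI : Group.IsNilpotent K := Subgroup.isNilpotent_of_ker_le_center (Abelianization.of (G := K)) (by
    rw [Abelianization.ker_of]
    exact commutator_le.2 fun a _ b _ => mem_center_iff.2 fun c =>
      Subtype.ext (h a a.2 b b.2 c c.2).symm.eq)
  let P : Sylow r K := default
  letI := P.unique_of_normal (Sylow.normal_of_normalizerCondition
    Group.normalizerCondition_of_isNilpotent P)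
  refine ⟨(P : Subgroup K).map K.subtype, fun k => ⟨?_, fun ⟨hk, n, e⟩ => ?_⟩⟩
  · rintro ⟨k, hk, rfl⟩
    obtain ⟨n, e⟩ := P.isPGroup' ⟨k, hk⟩
    exact ⟨k.2, n, congrArg (fun y : (P : Subgroup K) => ((y : K) : X)) e⟩
  · obtain ⟨Q, hQ⟩ := (show IsPGroup r (zpowers (⟨k, hk⟩ : K)) by
      rintro ⟨_, m, rfl⟩
      exact ⟨n, Subtype.ext (Subtype.ext (by
        show (k ^ m) ^ r ^ n = 1
        rw [← zpow_natCast, ← zpow_mul, mul_comm, zpow_mul, zpow_natCast, e, one_zpow]))⟩).exists_le_sylow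
    exact ⟨⟨k, hk⟩, Subsingleton.elim Q P ▸ hQ (mem_zpowers _), rfl⟩

end H15.FS
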