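/- IT tower (S3193), job RL: centraliser orders in `PSL(3,4)`. -/
import Cfsg.Agent.H41.ItSpec
import Cfsg.Agent.H57.SLCard

set_option autoImplicit false
set_option maxHeartbeats 400000

namespace H15.IT
open H41.IT Matrix Subgroup

section alg
variable {F A : Type*} [Field F] [Ring A] [Algebra F A]

theorem pw_step {M : A} {s t a b c : F} {k : ℕ}
    (h3 : M ^ 3 = s • M ^ 2 + t • M + 1) (hk : M ^ k = a • M ^ 2 + b • M + c • 1) :
    M ^ (k + 1) = (a * s + b) • M ^ 2 + (a * t + c) • M + a • 1 := by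
  have e : M ^ (k + 1) = a • M ^ 3 + b • M ^ 2 + c • M := by
    rw [pow_succ, hk, add_mul, add_mul, smul_mul_assoc, smul_mul_assoc, smul_mul_assoc, one_mul,
      ← pow_succ, ← sq]
  rw [e, h3]
  module

theorem pw_scalar {M : A} {s t : F} (h2 : (2 : F) = 0) (h4 : ∀ x : F, x = 0 ∨ x ^ 3 = 1)
    (h3 : M ^ 3 = s • M ^ 2 + t • M + 1) :
    ∃ k, (k = 3 ∨ k = 4 ∨ k = 5 ∨ k = 7) ∧ ∃ r : F, M ^ k = r • 1 := by
  have p3 : M ^ 3 = s • M ^ 2 + t • M + (1 : F) • 1 := by rw [one_smul, h3]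
  have p4 := pw_step h3 p3
  have p5 := pw_step h3 p4
  have p7 := pw_step h3 (pw_step h3 p5)
  have fin : ∀ {k : ℕ} {a b c : F}, M ^ k = a • M ^ 2 + b • M + c • 1 → a = 0 → b = 0 →
      ∃ r : F, M ^ k = r • 1 := fun {_ _ _ c} h ha hb => ⟨c, by
        rw [h, ha, hb, zero_smul, zero_smul, zero_add, zero_add]⟩
  rcases h4 s with hs | hs <;> rcases h4 t with ht | ht
  · exact ⟨3, by simp, fin p3 hs ht⟩
  · refine ⟨7, by simp, fin p7 ?_ ?_⟩ <;> subst hs <;> grind
  · refine ⟨7, by simp, fin p7 ?_ ?_⟩ <;> subst ht <;> grind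
  · by_cases e : s * t = 1
    · refine ⟨4, by simp, fin p4 ?_ ?_⟩ <;> grind
    · have hw : (s * t) ^ 2 + s * t + 1 = 0 := by
        have : (s * t - 1) * ((s * t) ^ 2 + s * t + 1) = 0 := by grind
        exact (mul_eq_zero.1 this).resolve_left (sub_ne_zero.2 e)
      refine ⟨5, by simp, fin p5 ?_ ?_⟩ <;> grind
end alg

section
variable {F : Type} [Field F] [Fintype F]

theorem two_eq (hF : Fintype.card F = 4) : (2 : F) = 0 := by
  have h := FiniteField.cast_card_eq_zero F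
  rw [hF] at h
  have : (2 : F) * 2 = 0 := by rw [← h]; norm_num
  exact mul_self_eq_zero.1 this

theorem cube (hF : Fintype.card F = 4) (x : F) : x = 0 ∨ x ^ 3 = 1 := by
  by_cases h : x = 0
  · exact Or.inl h
  · have := FiniteField.pow_card_sub_one_eq_one x h
    rw [hF] at this
    exact Or.inr this

theorem ch3 (h2 : (2 : F) = 0) (M : Matrix (Fin 3) (Fin 3) F) (hd : M.det = 1) :
    M ^ 3 = (M 0 0 + M 1 1 + M 2 2) • M ^ 2 + (M 0 0 * M 1 1 + M 0 0 * M 2 2 + M 1 1 * M 2 2 +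
      M 0 1 * M 1 0 + M 0 2 * M 2 0 + M 1 2 * M 2 1) • M + 1 := by
  rw [det_fin_three] at hd
  ext i j
  fin_cases i <;> fin_cases j <;> simp [pow_succ, Matrix.mul_apply, Fin.sum_univ_three] <;> grind

theorem psl_pow (hF : Fintype.card F = 4) (g : ProjectiveSpecialLinearGroup (Fin 3) F) :
    g ^ 3 = 1 ∨ g ^ 4 = 1 ∨ g ^ 5 = 1 ∨ g ^ 7 = 1 := by
  obtain ⟨x, rfl⟩ := QuotientGroup.mk_surjective g
  obtain ⟨k, hk, r, e⟩ := pw_scalar (two_eq hF) (cube hF) (ch3 (two_eq hF) x.1 x.2)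
  have : (x : ProjectiveSpecialLinearGroup (Fin 3) F) ^ k = 1 := by
    rw [← QuotientGroup.mk_pow, QuotientGroup.eq_one_iff, mem_center_iff]
    intro y
    apply Subtype.ext
    have e' : (x ^ k).1 = r • 1 := (Matrix.SpecialLinearGroup.coe_pow x k).trans e
    show y.1 * (x ^ k).1 = (x ^ k).1 * y.1
    rw [e']
    simp
  rcases hk with rfl | rfl | rfl | rfl <;> simp [this]

theorem card_l34 (hF : Fintype.card F = 4) :
    Nat.card (ProjectiveSpecialLinearGroup (Fin 3) F) = 20160 := by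
  have := H57.card_psl_fin (F := F) (n := 3) (by omega)
  rw [hF, Fin.prod_univ_three] at this
  norm_num at this
  omega

/-- the matrices `1 + b N + c N²` -/
def un (b c : F) : Matrix.SpecialLinearGroup (Fin 3) F :=
  ⟨!![1, b, c; 0, 1, b; 0, 0, 1], by simp [det_fin_three]⟩

theorem cent_un (hF : Fintype.card F = 4) :
    c ((un 1 0 : Matrix.SpecialLinearGroup (Fin 3) F) : ProjectiveSpecialLinearGroup (Fin 3) F) ≤ 16 := by
  have key : ∀ g ∈ C ((un 1 0 : Matrix.SpecialLinearGroup (Fin 3) F) :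
      ProjectiveSpecialLinearGroup (Fin 3) F), ∃ p : F × F, g = (un p.1 p.2 : _) := by
    intro g hg
    obtain ⟨x, rfl⟩ := QuotientGroup.mk_surjective g
    rw [mem_centralizer_singleton_iff, ← QuotientGroup.mk_mul, ← QuotientGroup.mk_mul,
      QuotientGroup.eq, Matrix.SpecialLinearGroup.mem_center_iff] at hg
    obtain ⟨r, -, hr⟩ := hg
    have e0 : x * un 1 0 * ((x * un 1 0)⁻¹ * (un 1 0 * x)) = un 1 0 * x := mul_inv_cancel_left _ _
    have e1 : (x * un 1 0).1 * ((x * un 1 0)⁻¹ * (un 1 0 * x)).1 = (un 1 0 * x).1 :=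
      congrArg Subtype.val e0
    have e : x.1 * !![1, 1, 0; 0, 1, 1; 0, 0, 1] * scalar (Fin 3) r =
        !![1, 1, 0; 0, 1, 1; 0, 0, 1] * x.1 := by
      rw [hr]; exact e1
    have hd := x.2
    rw [det_fin_three] at hd
    have f := fun i j => congrFun (congrFun e i) j
    have f00 := f 0 0; have f01 := f 0 1; have f02 := f 0 2
    have f10 := f 1 0; have f11 := f 1 1; have f12 := f 1 2
    have f20 := f 2 0; have f21 := f 2 1; have f22 := f 2 2
    simp [Matrix.mul_apply, Fin.sum_univ_three, Matrix.vecMul, dotProduct, diagonal_apply]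
      at f00 f01 f02 f10 f11 f12 f20 f21 f22
    have r1 : r = 1 := by
      by_contra hne
      have h0 : 1 - r ≠ 0 := sub_ne_zero.2 (Ne.symm hne)
      have a2 : x.1 2 0 = 0 := (mul_eq_zero.1 (show x.1 2 0 * (1 - r) = 0 by grind)).resolve_right h0
      have a1 : x.1 1 0 = 0 := (mul_eq_zero.1 (show x.1 1 0 * (1 - r) = 0 by grind)).resolve_right h0
      have a0 : x.1 0 0 = 0 := (mul_eq_zero.1 (show x.1 0 0 * (1 - r) = 0 by grind)).resolve_right h0
      grind
    subst r1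
    have ha : x.1 0 0 ^ 3 = 1 := by grind
    refine ⟨(x.1 0 0 ^ 2 * x.1 0 1, x.1 0 0 ^ 2 * x.1 0 2), ?_⟩
    let w : Matrix.SpecialLinearGroup (Fin 3) F := ⟨scalar (Fin 3) (x.1 0 0), by simp [ha]⟩
    have hw : w ∈ center (Matrix.SpecialLinearGroup (Fin 3) F) :=
      Matrix.SpecialLinearGroup.mem_center_iff.2 ⟨x.1 0 0, by simpa using ha, rfl⟩
    refine Eq.trans (congrArg _ ?_) (QuotientGroup.mk_mul_of_mem _ hw)
    apply Subtype.ext
    show x.1 = !![1, x.1 0 0 ^ 2 * x.1 0 1, x.1 0 0 ^ 2 * x.1 0 2; 0, 1, x.1 0 0 ^ 2 * x.1 0 1; 0, 0, 1] *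
      scalar (Fin 3) (x.1 0 0)
    clear hw w hr e0 e1 e f
    generalize x.1 = M at *
    ext i j
    fin_cases i <;> fin_cases j <;> simp <;> grind
  have := Nat.card_le_card_of_injective (fun g : C ((un 1 0 : Matrix.SpecialLinearGroup (Fin 3) F) :
      ProjectiveSpecialLinearGroup (Fin 3) F) => (key g g.2).choose) fun g g' h =>
    Subtype.ext (by
      rw [(key g g.2).choose_spec, (key g' g'.2).choose_spec]
      exact congrArg (fun p : F × F => ((un p.1 p.2 : Matrix.SpecialLinearGroup (Fin 3) F) :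
        ProjectiveSpecialLinearGroup (Fin 3) F)) h)
  rwa [Nat.card_prod, Nat.card_eq_fintype_card (α := F), hF] at this

theorem un_ne : ((un 1 0 : Matrix.SpecialLinearGroup (Fin 3) F) :
    ProjectiveSpecialLinearGroup (Fin 3) F) ≠ 1 := by
  rw [Ne, QuotientGroup.eq_one_iff, Matrix.SpecialLinearGroup.mem_center_iff]
  rintro ⟨r, -, hr⟩
  have := congrFun (congrFun hr 0) 1
  simp [un] at this

theorem un_pow (hF : Fintype.card F = 4) : ((un 1 0 : Matrix.SpecialLinearGroup (Fin 3) F) :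
    ProjectiveSpecialLinearGroup (Fin 3) F) ^ 4 = 1 := by
  have h2 := two_eq hF
  have : (un 1 0 : Matrix.SpecialLinearGroup (Fin 3) F) ^ 4 = 1 := by
    apply Subtype.ext
    refine (Matrix.SpecialLinearGroup.coe_pow _ _).trans ?_
    show !![(1 : F), 1, 0; 0, 1, 1; 0, 0, 1] ^ 4 = 1
    ext i j
    fin_cases i <;> fin_cases j <;>
      simp [pow_succ, Matrix.mul_apply, Fin.sum_univ_three] <;> grind
  rw [← QuotientGroup.mk_pow, this, QuotientGroup.mk_one]
end

section grp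
variable {G : Type*} [Group G] [Finite G]

theorem ord_dvd_c (g : G) : orderOf g ∣ c g :=
  Subgroup.orderOf_dvd_natCard _ (mem_centralizer_singleton_iff.2 rfl)

theorem c_pow (h : ∀ g : G, g ^ 3 = 1 ∨ g ^ 4 = 1 ∨ g ^ 5 = 1 ∨ g ^ 7 = 1) {p : ℕ} (hp : p.Prime)
    (hd : p ∣ Nat.card G) : ∃ g : G, g ≠ 1 ∧ ∀ q : ℕ, q.Prime → (q ∣ c g ↔ q = p) := by
  have := Fact.mk hp
  obtain ⟨g, hg⟩ := exists_prime_orderOf_dvd_card' p hd
  refine ⟨g, fun e => hp.one_lt.ne' (by rw [← hg, e, orderOf_one]), fun q hq => ⟨fun hq' => ?_,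
    fun e => e ▸ hg ▸ ord_dvd_c g⟩⟩
  by_contra hne
  have := Fact.mk hq
  obtain ⟨y, hy⟩ := exists_prime_orderOf_dvd_card' q hq'
  have hc : Commute (y : G) g := mem_centralizer_singleton_iff.1 y.2
  have ho := hc.orderOf_mul_eq_mul_orderOf_of_coprime
    (by rw [orderOf_coe, hy, hg]; exact (Nat.coprime_primes hq hp).2 hne)
  rw [orderOf_coe, hy, hg] at ho
  have key : ∀ r k : ℕ, r.Prime → ((y : G) * g) ^ r ^ k ≠ 1 := fun r k hr e => by
    have h1 := ho ▸ orderOf_dvd_of_pow_eq_one e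
    rw [(Nat.prime_dvd_prime_iff_eq hq hr).1 (hq.dvd_of_dvd_pow ((dvd_mul_right _ _).trans h1)),
      (Nat.prime_dvd_prime_iff_eq hp hr).1 (hp.dvd_of_dvd_pow ((dvd_mul_left _ _).trans h1))] at hne
    exact hne rfl
  rcases h ((y : G) * g) with e | e | e | e
  · exact key 3 1 Nat.prime_three e
  · exact key 2 2 Nat.prime_two e
  · exact key 5 1 Nat.prime_five e
  · exact key 7 1 (by norm_num) e

theorem ex_64 (h : Nat.card G = 20160) : ∃ t : G, t ≠ 1 ∧ 64 ∣ c t := by
  have := Fact.mk Nat.prime_two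
  obtain ⟨S, hS⟩ := Sylow.exists_subgroup_card_pow_prime (G := G) 2 (n := 6) (by rw [h]; norm_num)
  have : Nontrivial S := Finite.one_lt_card_iff_nontrivial.1 (by rw [hS]; norm_num)
  have := (IsPGroup.of_card hS).center_nontrivial
  obtain ⟨z, hz⟩ := exists_ne (1 : center S)
  refine ⟨z.1.1, fun e => hz (Subtype.ext (Subtype.ext e)), ?_⟩
  have : S ≤ C z.1.1 := fun s hs => mem_centralizer_singleton_iff.2
    (congrArg Subtype.val (mem_center_iff.1 z.2 ⟨s, hs⟩))
  exact (show 64 = Nat.card S by rw [hS]; norm_num) ▸ card_dvd_of_le this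
end grp

theorem jobRL : JobRL := by
  intro F _ _ hF
  have hc := card_l34 hF
  have hp := psl_pow hF
  obtain ⟨t, t1, ht⟩ := ex_64 hc
  obtain ⟨a, a1, ha⟩ := c_pow hp Nat.prime_three (by rw [hc]; norm_num)
  obtain ⟨b, b1, hb⟩ := c_pow hp Nat.prime_five (by rw [hc]; norm_num)
  obtain ⟨e, e1, he⟩ := c_pow hp (show Nat.Prime 7 by norm_num) (by rw [hc]; norm_num)
  have u1 := un_ne (F := F)
  have u2 := cent_un hF
  have u4 := un_pow hF
  generalize ((un 1 0 : Matrix.SpecialLinearGroup (Fin 3) F) :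
    ProjectiveSpecialLinearGroup (Fin 3) F) = u at u1 u2 u4
  have u3 : 2 ∣ c u := by
    refine Dvd.dvd.trans ?_ (ord_dvd_c u)
    obtain ⟨k, -, hk⟩ := (Nat.dvd_prime_pow Nat.prime_two (m := 2)).1 (orderOf_dvd_of_pow_eq_one u4)
    rcases k with _ | k
    · exact absurd (orderOf_eq_one_iff.1 hk) u1
    · rw [hk]; exact dvd_pow_self 2 (by omega)
  have t0 : 0 < c t := Nat.card_pos
  have a2 := ha 2 Nat.prime_two
  have a3 := ha 3 Nat.prime_three
  have b2 := hb 2 Nat.prime_two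
  have b3 := hb 3 Nat.prime_three
  have b5 := hb 5 Nat.prime_five
  have e2 := he 2 Nat.prime_two
  have e3 := he 3 Nat.prime_three
  have e5 := he 5 Nat.prime_five
  have hfin : (CS (ProjectiveSpecialLinearGroup (Fin 3) F)).Finite :=
    (Set.finite_range c).subset fun m ⟨g, _, h⟩ => ⟨g, h.symm⟩
  have hsub : (({c t, c u, c a, c b, c e} : Finset ℕ) : Set ℕ) ⊆
      CS (ProjectiveSpecialLinearGroup (Fin 3) F) := by
    intro m hm
    simp only [Finset.coe_insert, Finset.coe_singleton, Set.mem_insert_iff,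
      Set.mem_singleton_iff] at hm
    rcases hm with h | h | h | h | h
    exacts [⟨t, t1, h⟩, ⟨u, u1, h⟩, ⟨a, a1, h⟩, ⟨b, b1, h⟩, ⟨e, e1, h⟩]
  refine le_trans (le_of_eq ?_) (Set.ncard_le_ncard hsub hfin)
  generalize c t = x1 at *
  generalize c u = x2 at *
  generalize c a = x3 at *
  generalize c b = x4 at *
  generalize c e = x5 at *
  rw [Set.ncard_coe_finset, Finset.card_insert_of_notMem (by simp; omega),
    Finset.card_insert_of_notMem (by simp; omega), Finset.card_insert_of_notMem (by simp; omega),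
    Finset.card_insert_of_notMem (by simp; omega), Finset.card_singleton]

end H15.IT
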