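/- KU tower (S2196), job Po. -/
import Cfsg.Agent.H53.KUSpec

set_option autoImplicit false
set_option maxHeartbeats 400000

namespace H15.KU
open H53.KU H53.WU Module

section lin
variable {F W : Type*} [Field F] [AddCommGroup W] [Module F W]

theorem nil_step {N : Module.End F W} {k : ℕ} (hk : N ^ k = 0) (hN : N ≠ 0) :
    ∃ y, N y ≠ 0 ∧ N (N y) = 0 := by
  by_contra hc
  push Not at hc
  have key : ∀ j y, (N ^ j) (N y) = 0 → N y = 0 := by
    intro j
    induction j with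
    | zero => intro y h; simpa using h
    | succ j ih =>
      intro y h
      by_contra h0
      exact hc y h0 (ih (N y) (by rwa [pow_succ, Module.End.mul_apply] at h))
  exact hN (LinearMap.ext fun y => key k y (by rw [hk]; rfl))

theorem card_ne_zero (Γ : Subgroup (W ≃ₗ[F] W)) [Finite Γ]
    (h : ∀ γ ∈ Γ, ∀ x y : W, x ≠ 0 → γ x = x → γ y ≠ y + x) : (Nat.card Γ : F) ≠ 0 := by
  intro h0
  have hd := (ringChar.spec F _).1 h0
  have hp : (ringChar F).Prime := (CharP.char_is_prime_or_zero F _).resolve_right fun e =>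
    Nat.card_pos.ne' (Nat.eq_zero_of_zero_dvd (e ▸ hd))
  have := Fact.mk hp
  obtain ⟨γ, hγ⟩ := exists_prime_orderOf_dvd_card' _ hd
  have hN : (γ.1 : Module.End F W) - 1 ≠ 0 := fun e => hp.one_lt.ne' (by
    rw [← hγ, orderOf_eq_one_iff]
    exact Subtype.ext (LinearEquiv.ext fun v => LinearMap.congr_fun (sub_eq_zero.1 e) v))
  have : Nontrivial (Module.End F W) := ⟨_, _, hN⟩
  have : CharP (Module.End F W) (ringChar F) :=
    charP_of_injective_algebraMap (algebraMap F _).injective _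
  have e1 : (γ.1 : Module.End F W) ^ ringChar F = 1 := by
    have := congrArg (fun g : Γ => (g.1 : Module.End F W)) (hγ ▸ pow_orderOf_eq_one γ)
    ext v
    have h2 := LinearMap.congr_fun this v
    simpa [LinearEquiv.pow_apply, Module.End.pow_apply] using h2
  obtain ⟨y, h1, h2⟩ := nil_step (N := (γ.1 : Module.End F W) - 1) (k := ringChar F)
    (by rw [sub_pow_char_of_commute _ (Commute.one_right _), e1, one_pow, sub_self]) hN
  refine h γ.1 γ.2 _ y h1 (sub_eq_zero.1 h2) ?_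
  simp

theorem exists_compl (Γ : Subgroup (W ≃ₗ[F] W)) [Finite Γ] (h : (Nat.card Γ : F) ≠ 0) {x : W}
    (hx : x ≠ 0) (hΓ : ∀ γ ∈ Γ, ∃ c : F, γ x = c • x) : ∃ H : Submodule F W, x ∉ H ∧
      (∀ v, ∃ s : F, v - s • x ∈ H) ∧ ∀ γ ∈ Γ, ∀ v ∈ H, γ v ∈ H := by
  have := Fintype.ofFinite Γ
  obtain ⟨φ, hφ⟩ := Module.Projective.exists_dual_eq_one F hx
  let π : W →ₗ[F] W := (Nat.card Γ : F)⁻¹ • ∑ γ : Γ,
    ((γ⁻¹ : Γ).1 : W →ₗ[F] W) ∘ₗ φ.smulRight x ∘ₗ (γ.1 : W →ₗ[F] W)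
  have hπ : ∀ v, π v = (Nat.card Γ : F)⁻¹ • ∑ γ : Γ, (γ⁻¹ : Γ).1 (φ (γ.1 v) • x) := fun v => by
    simp [π, LinearMap.sum_apply]
  have h1 : π x = x := by
    rw [hπ, Finset.sum_congr rfl (g := fun _ => x) fun γ _ => by
      obtain ⟨c, hc⟩ := hΓ γ.1 γ.2
      rw [hc, map_smul φ, hφ, smul_eq_mul, mul_one, ← hc]
      exact γ.1.symm_apply_apply x]
    rw [Finset.sum_const, Finset.card_univ, ← Nat.cast_smul_eq_nsmul F, smul_smul,
      ← Nat.card_eq_fintype_card, inv_mul_cancel₀ h, one_smul]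
  have h2 : ∀ v, π v ∈ Submodule.span F {x} := fun v => by
    rw [hπ]
    refine Submodule.smul_mem _ _ (Submodule.sum_mem _ fun γ _ => ?_)
    obtain ⟨c, hc⟩ := hΓ _ (γ⁻¹ : Γ).2
    rw [map_smul, hc]
    exact Submodule.smul_mem _ _ (Submodule.smul_mem _ _ (Submodule.mem_span_singleton_self x))
  refine ⟨LinearMap.ker π, fun e => hx (h1.symm.trans e), fun v => ?_, fun δ hδ v hv => ?_⟩
  · obtain ⟨s, hs⟩ := Submodule.mem_span_singleton.1 (h2 v)
    exact ⟨s, by rw [LinearMap.mem_ker, map_sub, map_smul, h1, hs, sub_self]⟩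
  · have : π (δ v) = δ (π v) := by
      rw [hπ, hπ, map_smul, map_sum]
      congr 1
      refine Fintype.sum_equiv (Equiv.mulRight (⟨δ, hδ⟩ : Γ)) _ _ fun γ => ?_
      have e : (γ⁻¹ : Γ).1 = δ * ((γ * ⟨δ, hδ⟩)⁻¹ : Γ).1 := by simp
      rw [e]
      rfl
    rw [LinearMap.mem_ker, this, LinearMap.mem_ker.1 hv, map_zero]

theorem third [FiniteDimensional F W] (h3 : finrank F W = 3) {x y : W} (hx : x ≠ 0)
    (hy : ∀ c : F, y ≠ c • x) : ∃ z, (∀ c d : F, z ≠ c • x + d • y) ∧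
      Submodule.span F {x, y, z} = ⊤ := by
  have h2 : Submodule.span F {x, y} ≠ ⊤ := fun e => by
    classical
    have := finrank_span_finset_le_card (R := F) ({x, y} : Finset W)
    have h4 := Finset.card_le_two (a := x) (b := y)
    rw [Set.finrank, Finset.coe_pair, e, finrank_top] at this
    omega
  obtain ⟨z, -, hz⟩ := SetLike.exists_of_lt (lt_top_iff_ne_top.2 h2)
  refine ⟨z, fun c d e => hz (Submodule.mem_span_pair.2 ⟨c, d, e.symm⟩), ?_⟩
  have l1 : Submodule.span F {x} < Submodule.span F {x, y} :=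
    SetLike.lt_iff_le_and_exists.2 ⟨Submodule.span_mono (by simp), y,
      Submodule.subset_span (by simp), fun e => by
        obtain ⟨c, hc⟩ := Submodule.mem_span_singleton.1 e
        exact hy c hc.symm⟩
  have l2 : Submodule.span F {x, y} < Submodule.span F {x, y, z} :=
    SetLike.lt_iff_le_and_exists.2 ⟨Submodule.span_mono (by
      intro a ha; simp at ha ⊢; tauto), z, Submodule.subset_span (by simp), hz⟩
  have a1 := Submodule.finrank_lt_finrank_of_lt l1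
  have a2 := Submodule.finrank_lt_finrank_of_lt l2
  rw [finrank_span_singleton hx] at a1
  have a3 := Submodule.finrank_le (Submodule.span F {x, y, z})
  exact Submodule.eq_top_of_finrank_eq (by omega)
end lin

/-- The action on `P` of the stabiliser of `P` and of the point `x`. -/
def Gam (S : KS) (P : Submodule S.F S.V) (x : P) : Subgroup (P ≃ₗ[S.F] P) where
  carrier := {γ | (∃ k ∈ S.K, ∀ v : P, k.1 v = γ v) ∧ ∃ c : S.Fˣ, γ x = (c : S.F) • x}
  mul_mem' := by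
    rintro γ δ ⟨⟨k, hk, e⟩, c, hc⟩ ⟨⟨l, hl, e'⟩, d, hd⟩
    refine ⟨⟨k * l, S.K.mul_mem hk hl, fun v => ?_⟩, d * c, ?_⟩
    · show k.1 (l.1 v) = γ (δ v)
      rw [e', e]
    · show γ (δ x) = _
      rw [hd, map_smul, hc, smul_smul, Units.val_mul]
  one_mem' := ⟨⟨1, S.K.one_mem, fun _ => rfl⟩, 1, by simp⟩
  inv_mem' := by
    rintro γ ⟨⟨k, hk, e⟩, c, hc⟩
    refine ⟨⟨k⁻¹, S.K.inv_mem hk, fun v => ?_⟩, c⁻¹, ?_⟩
    · show k.1.symm v = γ.symm v
      rw [LinearEquiv.symm_apply_eq, e, LinearEquiv.apply_symm_apply]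
    · show γ.symm x = _
      rw [LinearEquiv.symm_apply_eq, map_smul, hc, smul_smul, Units.inv_mul, one_smul]

theorem exists_plane (hC : JobCh) (S : KS) : ∃ P : Submodule S.F S.V, finrank S.F P = 3 ∧
    ∀ x ∈ P, ∀ y ∈ P, S.B x y = 0 := by
  obtain ⟨Φ, -, -⟩ := hC S.toHS (S.r + 3) 1 S.hr ⟨0, one_pow _⟩ 0 (Nat.zero_le _) Fin.elim0
    (fun i => i.elim0) linearIndependent_empty_type fun i => i.elim0
  let e : Fin 3 → S.V := fun i => Φ.e (Fin.castLE (Nat.le_add_left 3 S.r) i)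
  have li : LinearIndependent S.F e := by
    rw [Fintype.linearIndependent_iff]
    intro g hg i
    have := congrArg (S.B (Φ.f (Fin.castLE (Nat.le_add_left 3 S.r) i))) hg
    simpa [e, Φ.fe] using this
  refine ⟨Submodule.span S.F (Set.range e), by rw [finrank_span_eq_card li, Fintype.card_fin],
    fun x hx y hy => ?_⟩
  have h1 : ∀ i, S.B (e i) y = 0 := fun i => by
    refine (Submodule.span_le (p := LinearMap.ker (S.B (e i)))).2 ?_ hy
    rintro _ ⟨j, rfl⟩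
    exact Φ.ee _ _
  induction hx using Submodule.span_induction with
  | mem v hv => obtain ⟨i, rfl⟩ := hv; exact h1 i
  | zero => simp
  | add a b _ _ ha hb => simp [ha, hb]
  | smul c a _ ha => simp [ha]

theorem jobPo : JobBa → JobCh → JobPo := by
  intro hB hC S g3 rc
  obtain ⟨P, h3, hP⟩ := exists_plane hC S
  have : Finite (P ≃ₗ[S.F] P) := Finite.of_injective _ DFunLike.coe_injective
  have hH : ∀ x : P, ∃ H : Submodule S.F P, x ≠ 0 → x ∉ H ∧
      (∀ v, ∃ s : S.F, v - s • x ∈ H) ∧ ∀ γ ∈ Gam S P x, ∀ v ∈ H, γ v ∈ H := by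
    intro x
    by_cases hx : x = 0
    · exact ⟨⊥, fun h => absurd hx h⟩
    obtain ⟨H, h⟩ := exists_compl (Gam S P x) (card_ne_zero _ fun γ hγ a b ha e1 e2 => by
      obtain ⟨⟨k, hk, e⟩, -⟩ := hγ
      refine rc k hk a b ⟨fun h0 => ha (Subtype.ext h0), hP _ a.2 _ a.2⟩ (hP _ b.2 _ b.2)
        (hP _ a.2 _ b.2) (by rw [e, e1]) (by rw [e, e2]; rfl)) hx fun γ hγ => ⟨_, hγ.2.choose_spec⟩
    exact ⟨H, fun _ => h⟩
  choose H hH using hH
  refine hB S.F P ⊤ H (by rw [finrank_top, h3])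
    (fun x _ hx => ⟨(hH x hx).1, fun v _ => (hH x hx).2.1 v⟩) fun x _ y _ hx hy hyx => ?_
  obtain ⟨x1, -, x3⟩ := hH x hx
  obtain ⟨y1, y2, y3⟩ := hH y hy
  have hc : ∀ c : S.F, y ≠ c • x := fun c e => by
    have c0 : c ≠ 0 := fun h0 => hy (by rw [e, h0, zero_smul])
    exact x1 (((H x).smul_mem_iff c0).1 (e ▸ hyx))
  obtain ⟨z, hz, hsp⟩ := third h3 hx hc
  obtain ⟨h, hh, a, b, c, e1, e2, hab, e3⟩ := g3 x y z
    ⟨⟨⟨fun h0 => hx (Subtype.ext h0), hP _ x.2 _ x.2⟩, hP _ y.2 _ y.2, hP _ x.2 _ y.2,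
      fun c e => hc c (Subtype.ext e)⟩, hP _ z.2 _ z.2, hP _ x.2 _ z.2, hP _ y.2 _ z.2,
      fun c d e => hz c d (Subtype.ext e)⟩
  have hm : ∀ v ∈ P, (h.1 : S.V →ₗ[S.F] S.V) v ∈ P := by
    intro v hv
    refine (Submodule.span_le (p := P.comap ((h.1 : S.V →ₗ[S.F] S.V) ∘ₗ P.subtype))).2 ?_
      (show (⟨v, hv⟩ : P) ∈ Submodule.span S.F {x, y, z} from hsp ▸ Submodule.mem_top)
    rintro w (rfl | rfl | rfl)
    · show h.1 w ∈ P
      rw [e1]; exact P.smul_mem _ w.2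
    · show h.1 w ∈ P
      rw [e2]; exact P.add_mem (P.smul_mem _ w.2) (P.smul_mem _ x.2)
    · show h.1 w ∈ P
      refine Submodule.span_le.2 ?_ e3
      rintro u (rfl | rfl | rfl)
      exacts [x.2, y.2, w.2]
  let γ : P ≃ₗ[S.F] P := LinearEquiv.ofInjectiveEndo ((h.1 : S.V →ₗ[S.F] S.V).restrict hm)
    fun u v e => Subtype.ext (h.1.injective (congrArg Subtype.val e))
  have hγ : ∀ v : P, h.1 v = γ v := fun _ => rfl
  have f1 : γ x = (a : S.F) • x := Subtype.ext e1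
  have f2 : γ y = (b : S.F) • y + c • x := Subtype.ext e2
  have c0 : c = 0 := by
    by_contra c0
    have := x3 γ ⟨⟨h, hh, hγ⟩, a, f1⟩ y hyx
    rw [f2, (H x).add_mem_iff_right ((H x).smul_mem _ hyx)] at this
    exact x1 (((H x).smul_mem_iff c0).1 this)
  rw [c0, zero_smul, add_zero] at f2
  obtain ⟨s, hs⟩ := y2 x
  have h1 := y3 γ ⟨⟨h, hh, hγ⟩, b, f2⟩ _ hs
  have h2 : (s * ((a : S.F) - b)) • y ∈ H y := by
    have := (H y).sub_mem h1 ((H y).smul_mem (a : S.F) hs)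
    rw [map_sub, map_smul, f1, f2] at this
    convert this using 1
    module
  have s0 : s = 0 := by
    by_contra s0
    exact y1 (((H y).smul_mem_iff (mul_ne_zero s0 (sub_ne_zero.2 fun e => hab (Units.ext e)))).1 h2)
  simpa [s0] using hs

end H15.KU
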