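import Cfsg.Agent.H63.KgvSpec

/-! Tower KGV, slot JH1. -/

set_option autoImplicit false
set_option maxHeartbeats 400000

namespace H15.KgvH1

open Finset Cfsg ComplexConjugate H63.Kgv

variable {p : ℕ} [hp : Fact p.Prime] {M : ℕ} {K : Type} [Field K] [Fintype K] [Algebra (ZMod p) K]
  {g : Kˣ} {θ : Kˣ →* ℂˣ}

theorem iter (x : Kˣ) (n : ℕ) : (fun y : Kˣ => y ^ p)^[n] x = x ^ p ^ n := by
  induction n with
  | zero => simp
  | succ n ih => rw [Function.iterate_succ_apply', ih, ← pow_mul, pow_succ]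

theorem pow_card (s : Su p M g θ) (x : Kˣ) : x ^ (p ^ M - 1) = 1 := by
  classical
  rw [← s.card, ← Fintype.card_units, pow_card_eq_one]

theorem per (s : Su p M g θ) (x : Kˣ) : Function.IsPeriodicPt (fun y : Kˣ => y ^ p) M x := by
  have h : p ^ M = (p ^ M - 1) + 1 := (Nat.sub_add_cancel (Nat.one_le_pow _ _ hp.out.pos)).symm
  show _ = _
  rw [iter, h, pow_succ, pow_card s, one_mul]

theorem dg_facts (s : Su p M g θ) (x : Kˣ) :
    0 < dg p x ∧ dg p x ∣ M ∧ x ^ p ^ dg p x = x ∧ dg p (x ^ p) = dg p x := by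
  have h := per s x
  have hm : x ∈ Function.periodicPts (fun y : Kˣ => y ^ p) := ⟨M, s.pos, h⟩
  refine ⟨Function.minimalPeriod_pos_of_mem_periodicPts hm, h.minimalPeriod_dvd, ?_,
    Function.minimalPeriod_apply hm⟩
  rw [← iter]
  exact Function.iterate_minimalPeriod

theorem tr_frob (s : Su p M g θ) {D : ℕ} (hD : D ∣ M) (j : ℕ) :
    tr p M g D (p * j % (p ^ D - 1)) = tr p M g D j := by
  have hN : p ^ D = (p ^ D - 1) + 1 := (Nat.sub_add_cancel (Nat.one_le_pow _ _ hp.out.pos)).symm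
  have hd : p ^ D - 1 ∣ p ^ M - 1 := Nat.pow_sub_one_dvd_pow_sub_one p hD
  have h1 : (g ^ ((p ^ M - 1) / (p ^ D - 1))) ^ (p ^ D - 1) = 1 := by
    rw [← pow_mul, Nat.div_mul_cancel hd, pow_card s]
  unfold tr
  congr 1
  set γ := g ^ ((p ^ M - 1) / (p ^ D - 1)) with hγ
  have h2 : g ^ ((p ^ M - 1) / (p ^ D - 1) * (p * j % (p ^ D - 1))) = (γ ^ j) ^ p := by
    rw [pow_mul, ← hγ, ← pow_eq_pow_mod _ h1, mul_comm, pow_mul]
  have h3 : g ^ ((p ^ M - 1) / (p ^ D - 1) * j) = γ ^ j := pow_mul _ _ _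
  have h4 : (γ ^ j) ^ p ^ D = γ ^ j := by
    rw [hN, pow_succ, ← pow_mul, mul_comm j, pow_mul, h1, one_pow, one_mul]
  rw [h2, h3]
  set a : K := ((γ ^ j : Kˣ) : K) with ha
  have h5 : a ^ p ^ D = a := by rw [ha, ← Units.val_pow_eq_pow_val, h4]
  have h6 := (sum_range_succ (fun i => a ^ p ^ i) D).symm.trans
    (sum_range_succ' (fun i => a ^ p ^ i) D)
  rw [h5, pow_zero, pow_one, add_left_inj] at h6
  rw [h6]
  refine sum_congr rfl fun i _ => ?_
  rw [Units.val_pow_eq_pow_val, ← ha, ← pow_mul, pow_succ']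

theorem gg_frob (s : Su p M g θ) (t : ZMod p) {D : ℕ} (h0 : 0 < D) (hD : D ∣ M) {x : Kˣ}
    (hx : x ^ p ^ D = x) : GG p M g θ t D (x ^ p) = GG p M g θ t D x := by
  have hN : p ^ D = (p ^ D - 1) + 1 := (Nat.sub_add_cancel (Nat.one_le_pow _ _ hp.out.pos)).symm
  have h1 : x ^ (p ^ D - 1) = 1 := by
    rw [hN, pow_succ] at hx
    exact mul_eq_right.1 hx
  have h2 : (θ x : ℂ) ^ (p ^ D - 1) = 1 := by
    rw [← Units.val_pow_eq_pow_val, ← map_pow, h1, map_one, Units.val_one]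
  have hc : (p ^ D - 1).Coprime p := by
    have : (p ^ D - 1).Coprime (p ^ D - 1 + 1) :=
      Nat.coprime_self_add_right.2 (Nat.coprime_one_right _)
    rw [← hN] at this
    exact this.coprime_dvd_right (dvd_pow_self p h0.ne')
  have hpos : 0 < p ^ D - 1 := Nat.sub_pos_of_lt (Nat.one_lt_pow h0.ne' hp.out.one_lt)
  have hm : Set.MapsTo (fun j => p * j % (p ^ D - 1)) (range (p ^ D - 1)) (range (p ^ D - 1)) :=
    fun j _ => mem_coe.2 (mem_range.2 (Nat.mod_lt _ hpos))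
  have hi : Set.InjOn (fun j => p * j % (p ^ D - 1)) (range (p ^ D - 1)) := fun a ha b hb e =>
    Nat.ModEq.eq_of_lt_of_lt (Nat.ModEq.cancel_left_of_coprime hc e) (mem_range.1 (mem_coe.1 ha))
      (mem_range.1 (mem_coe.1 hb))
  unfold GG
  congr 1
  refine sum_nbij (fun j => p * j % (p ^ D - 1)) (fun j hj => hm hj) hi
    (surjOn_of_injOn_of_card_le _ hm hi le_rfl) fun j _ => ?_
  rw [tr_frob s hD, ← pow_eq_pow_mod _ h2, map_pow, Units.val_pow_eq_pow_val, pow_mul]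

theorem job : JH1 := by
  intro br lf p hp M K _ _ _ g θ s
  refine ⟨fun t ht => ?_, fun t x _ => ?_, fun t x ht hx => ?_⟩
  · have h1 : dg p (1 : Kˣ) = 1 :=
      Function.minimalPeriod_eq_one_iff_isFixedPt.2 (one_pow p)
    obtain ⟨F, L, _, _, _, _, _, ψ, χ, γ, ψ', χ', γ', b, -⟩ := br p M K g θ s 1 1 (one_dvd _)
    have h2 : χ 1 = 1 := by
      refine MulChar.ext fun a => ?_
      obtain ⟨k, hk⟩ := mem_powers_iff_mem_zpowers.2 (b.gen a)
      have h3 := b.val 1 (one_pow _)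
      rw [map_one, Units.val_one] at h3
      rw [MulChar.one_apply_coe, ← hk]
      simp only [Units.val_pow_eq_pow_val, map_pow, h3, one_pow]
    unfold HH
    rw [h1, Nat.cast_one, inv_one, Complex.cpow_one, b.gs t 1 (one_pow _), h2,
      gaussSum_one_left (b.ne t ht), neg_neg]
  · obtain ⟨h0, hD, hx, e⟩ := dg_facts s x
    unfold HH
    rw [e, gg_frob s t h0 hD hx]
  · obtain ⟨h0, hD, hx', -⟩ := dg_facts s x
    have h1 := lf p M K g θ s t _ x ht hD hx'
    obtain ⟨F, L, _, _, _, _, _, ψ, χ, γ, ψ', χ', γ', b, -⟩ :=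
      br p M K g θ s (dg p x) 1 (by rwa [mul_one])
    have h2 : χ x ≠ 1 := fun e => hx (s.inj (Units.ext (by
      rw [← b.val x hx', e, MulChar.one_apply_coe, map_one, Units.val_one])))
    have h3 := gaussSum_mul_gaussSum_eq_card h2 (AddChar.IsPrimitive.of_ne_one (b.ne t ht))
    rw [← star_gaussSum_eq, b.card] at h3
    rw [b.gs t x hx'] at h1
    have h4 : (HH p M g θ t x * conj (HH p M g θ t x)) ^ dg p x = (p : ℂ) ^ dg p x := by
      rw [mul_pow, ← map_pow, h1, map_neg, neg_mul_neg]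
      exact_mod_cast h3
    rw [Complex.mul_conj] at h4 ⊢
    have h5 : Complex.normSq (HH p M g θ t x) ^ dg p x = (p : ℝ) ^ dg p x := by exact_mod_cast h4
    have h6 := (pow_left_inj₀ (Complex.normSq_nonneg _) (Nat.cast_nonneg p) h0.ne').1 h5
    rw [h6]; simp

end H15.KgvH1
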