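import Cfsg.Agent.H88.OutC
import Cfsg.Agent.H15.RepJ2
set_option maxRecDepth 1000000
set_option Elab.async false
namespace H15.OutJ2
open H71 H81 H88
theorem good0 : Good 112 (H15.RepJ2.ρ).range [H15.RepJ2.na, H15.RepJ2.nh, H15.RepJ2.ng] :=
  H15.RepJ2.good
noncomputable def n3_0 : ℕ := 0x73a01a8ed5f4d8
noncomputable def n3_1 : ℕ := 0x796bd62000000024f91ac
noncomputable def n3_2 : ℕ := 0x2a3a0001b4c00007d800017d0
noncomputable def n3_3 : ℕ := 0x1000220030068013006801c0008
noncomputable def n3_4 : ℕ := 0x814186000420304141840000204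
noncomputable def n3_5 : ℕ := 0x2400012240801004000000440100
noncomputable def n3_6 : ℕ := 0x22040912250a1122500800240205
noncomputable def n3_7 : ℕ := 0x60c101200010304401810444110
noncomputable def n3_8 : ℕ := 0x21008600043070e0c1800208001
noncomputable def n3_9 : ℕ := 0x140022009c02b006806c01cc06e
noncomputable def n3_10 : ℕ := 0x2c710003aae0002ef100036c3
noncomputable def n3_11 : ℕ := 0x196094a0000000a8ed48c
noncomputable def n3_12 : ℕ := 0x73a02ca51df46b
noncomputable def n3 : Net := .cons 56 n3_0 <| .cons 28 n3_1 <| .cons 14 n3_2 <| .cons 7 n3_3 <| .cons 4 n3_4 <| .cons 2 n3_5 <| .cons 1 n3_6 <| .cons 2 n3_7 <| .cons 4 n3_8 <| .cons 7 n3_9 <| .cons 14 n3_10 <| .cons 28 n3_11 <| .cons 56 n3_12 <| .nil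
noncomputable def La3 : List Net := n3 :: [H15.RepJ2.na, H15.RepJ2.nh, H15.RepJ2.ng]
theorem ga3 : Good 112 (H15.RepJ2.ρ).range La3 :=
  Good.word (m := 7) (by norm_num) good0 (w := [3,1,4,0,5]) (by decide +kernel)
noncomputable def Tn3 : H88.Tr := (.leaf (nat_lit 0) (nat_lit 0xfffe83f3945022923306a01e20400000fff03c1449a45e40ccd9c5c1804000000002f68c3a03f50ff4b6373d20040000ff03d125ad66743e18e4425bca1d0000f0f3a8afea1e4036c37538e5e10a0000ccc4ea8b0c2f44f77689d10e997c0000aaad91a729a2a229f18fbde29f04))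
noncomputable def ln3 : Lt := ⟨Tn3, n3⟩
theorem on3 : OK 112 (H15.RepJ2.ρ).range ln3 := OK.of (m := 7) (by norm_num) (H := 128) ga3 (by decide +kernel)
noncomputable def n4_0 : ℕ := 0xc8b2a3368ee900
noncomputable def n4_1 : ℕ := 0x7fce2bc0000000b105818
noncomputable def n4_2 : ℕ := 0x3668000055a000342e00023ba
noncomputable def n4_3 : ℕ := 0x1600520150040016005000c0046
noncomputable def n4_4 : ℕ := 0x218382000800100183040a0c180
noncomputable def n4_5 : ℕ := 0x44000000000000400800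
noncomputable def n4_6 : ℕ := 0xa50a8028540140050a012814895
noncomputable def n4_7 : ℕ := 0x24c182044808224440812204183
noncomputable def n4_8 : ℕ := 0x14301080800704141840810300
noncomputable def n4_9 : ℕ := 0x1b8050017806401000010190069
noncomputable def n4_10 : ℕ := 0x13f900037790003cff0002a2e
noncomputable def n4_11 : ℕ := 0xbf723cd00000008509010
noncomputable def n4_12 : ℕ := 0xc8b22241a7845a
noncomputable def n4 : Net := .cons 56 n4_0 <| .cons 28 n4_1 <| .cons 14 n4_2 <| .cons 7 n4_3 <| .cons 4 n4_4 <| .cons 2 n4_5 <| .cons 1 n4_6 <| .cons 2 n4_7 <| .cons 4 n4_8 <| .cons 7 n4_9 <| .cons 14 n4_10 <| .cons 28 n4_11 <| .cons 56 n4_12 <| .nil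
noncomputable def La4 : List Net := n4 :: La3
theorem ga4 : Good 112 (H15.RepJ2.ρ).range La4 :=
  Good.word (m := 7) (by norm_num) ga3 (w := [3,7,7,4,2,6]) (by decide +kernel)
noncomputable def Tn4 : H88.Tr := (.leaf (nat_lit 0) (nat_lit 0xfff0c07a20759080a4ab1664e9010000fff911809c484e3e53d40b170010000000026b6b70a43c38bb6c798b55020000ff0efa0e8599fe291578d461034a0000f0fa1ebd130dd8cca94fd5b210980000ccc63c70931e9c1647b2b0b75f230000aaabb297a3d70bab222819bfce80))
noncomputable def ln4 : Lt := ⟨Tn4, n4⟩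
theorem on4 : OK 112 (H15.RepJ2.ρ).range ln4 := OK.of (m := 7) (by norm_num) (H := 128) ga4 (by decide +kernel)
noncomputable def n5_0 : ℕ := 0xc873c1bd21d8ee
noncomputable def n5_1 : ℕ := 0x4e6716400000007b1a300
noncomputable def n5_2 : ℕ := 0x31e4000165800025fe00012d8
noncomputable def n5_3 : ℕ := 0xc000a009000001a002201c8022
noncomputable def n5_4 : ℕ := 0x410100040800302140060218381
noncomputable def n5_5 : ℕ := 0x40090000000100000002
noncomputable def n5_6 : ℕ := 0x21408408508900a148110800081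
noncomputable def n5_7 : ℕ := 0x22000822440092200c010060c180
noncomputable def n5_8 : ℕ := 0x2083000c081800614102081c280
noncomputable def n5_9 : ℕ := 0xc000a01d006701700230140038
noncomputable def n5_10 : ℕ := 0x13640003e1f0002c9e00016da
noncomputable def n5_11 : ℕ := 0x4e678cc00000007f126e0
noncomputable def n5_12 : ℕ := 0xc871d99d3058ee
noncomputable def n5 : Net := .cons 56 n5_0 <| .cons 28 n5_1 <| .cons 14 n5_2 <| .cons 7 n5_3 <| .cons 4 n5_4 <| .cons 2 n5_5 <| .cons 1 n5_6 <| .cons 2 n5_7 <| .cons 4 n5_8 <| .cons 7 n5_9 <| .cons 14 n5_10 <| .cons 28 n5_11 <| .cons 56 n5_12 <| .nil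
noncomputable def La5 : List Net := n5 :: La4
theorem ga5 : Good 112 (H15.RepJ2.ρ).range La5 :=
  Good.word (m := 7) (by norm_num) ga4 (w := [1,2,0]) (by decide +kernel)
noncomputable def Tn5 : H88.Tr := (.leaf (nat_lit 0) (nat_lit 0xfff14013a14500f83a08278999690000fff48e5c549067474575084090100000000650cb2dfb0d1f88367af029220000ff0dd3a4919324949dcc19656f620000f0f96eae7da2c1a41a5e7c8c60a40000cccae5c6d6560df45ea6c2a518170000aaa1e66c04fb7a9ac284e4c5b2eb))
noncomputable def ln5 : Lt := ⟨Tn5, n5⟩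
theorem on5 : OK 112 (H15.RepJ2.ρ).range ln5 := OK.of (m := 7) (by norm_num) (H := 128) ga5 (by decide +kernel)
noncomputable def n6_0 : ℕ := 0x167b46c0034804
noncomputable def n6_1 : ℕ := 0xd56513800000001b3a830
noncomputable def n6_2 : ℕ := 0x1c600002af20003bec0003742
noncomputable def n6_3 : ℕ := 0x148078012000a0028030009802e
noncomputable def n6_4 : ℕ := 0x80830400000050c143050210302
noncomputable def n6_5 : ℕ := 0x40010040010200000122408100
noncomputable def n6_6 : ℕ := 0xa50a110850a112a100112250201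
noncomputable def n6_7 : ℕ := 0x60401124001120648902200c001
noncomputable def n6_8 : ℕ := 0xa14304081810408041850200300
noncomputable def n6_9 : ℕ := 0x10007c016000f008407d01d802e
noncomputable def n6_10 : ℕ := 0x3cb700023fa00027000000461
noncomputable def n6_11 : ℕ := 0xc16d62d0000000bbb3829
noncomputable def n6_12 : ℕ := 0x167353a46d4416
noncomputable def n6 : Net := .cons 56 n6_0 <| .cons 28 n6_1 <| .cons 14 n6_2 <| .cons 7 n6_3 <| .cons 4 n6_4 <| .cons 2 n6_5 <| .cons 1 n6_6 <| .cons 2 n6_7 <| .cons 4 n6_8 <| .cons 7 n6_9 <| .cons 14 n6_10 <| .cons 28 n6_11 <| .cons 56 n6_12 <| .nil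
noncomputable def La6 : List Net := n6 :: La5
theorem ga6 : Good 112 (H15.RepJ2.ρ).range La6 :=
  Good.word (m := 7) (by norm_num) ga5 (w := [4,2,2,2,4,4]) (by decide +kernel)
noncomputable def Tn6 : H88.Tr := (.leaf (nat_lit 0) (nat_lit 0xfff602762c9a0818194a29652c420000fffc2e8bd040964540a58042523c0000000a182974e5ada5245f7835bb200000ff0b24c8df08aca63a49c730ed4d0000f0f170592994f09c6ee9ba083bec0000ccc494b21ec98dcee3cc5a1c06fe0000aaab4f7e1e4ca350b1f2be10da88))
noncomputable def ln6 : Lt := ⟨Tn6, n6⟩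
theorem on6 : OK 112 (H15.RepJ2.ρ).range ln6 := OK.of (m := 7) (by norm_num) (H := 128) ga6 (by decide +kernel)
noncomputable def n7_0 : ℕ := 0xa0bae990fc1eee
noncomputable def n7_1 : ℕ := 0x5f8188000000002123582
noncomputable def n7_2 : ℕ := 0x1fb6000080a0003af0000355c
noncomputable def n7_3 : ℕ := 0x78060016001201c000e0138008
noncomputable def n7_4 : ℕ := 0x81c004020000402080010610100
noncomputable def n7_5 : ℕ := 0x2408100044000004080000008102
noncomputable def n7_6 : ℕ := 0x2804a00024429428448852004204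
noncomputable def n7_7 : ℕ := 0x40801040419100480132448180
noncomputable def n7_8 : ℕ := 0xc0820002100820e001040600082
noncomputable def n7_9 : ℕ := 0x10007016001d0144015003800a
noncomputable def n7_10 : ℕ := 0x23d1000002a000367000023de
noncomputable def n7_11 : ℕ := 0xdf9865f0000000632616a
noncomputable def n7_12 : ℕ := 0xa0b609b20d1bde
noncomputable def n7 : Net := .cons 56 n7_0 <| .cons 28 n7_1 <| .cons 14 n7_2 <| .cons 7 n7_3 <| .cons 4 n7_4 <| .cons 2 n7_5 <| .cons 1 n7_6 <| .cons 2 n7_7 <| .cons 4 n7_8 <| .cons 7 n7_9 <| .cons 14 n7_10 <| .cons 28 n7_11 <| .cons 56 n7_12 <| .nil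
noncomputable def La7 : List Net := n7 :: La6
theorem ga7 : Good 112 (H15.RepJ2.ρ).range La7 :=
  Good.word (m := 7) (by norm_num) ga6 (w := [1,1,2,1,1]) (by decide +kernel)
noncomputable def Tn7 : H88.Tr := (.leaf (nat_lit 0) (nat_lit 0xfff255466da403a03b0836c0a0600000fff062ba9019cc7d40d401209492000000000ddca0ccff8fe5414846796a0000ff09076c8c57555edaca783542640000f0fdbec8f3e37b441bb6500611420000ccc47c121f97ec466902dced08fe0000aaaa9e3f3a7f4108c70c9d56b886))
noncomputable def ln7 : Lt := ⟨Tn7, n7⟩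
theorem on7 : OK 112 (H15.RepJ2.ρ).range ln7 := OK.of (m := 7) (by norm_num) (H := 128) ga7 (by decide +kernel)
noncomputable def nx_0 : ℕ := 0x60f2bd2dc0220a
noncomputable def nx_1 : ℕ := 0xd77916e00000009d92e08
noncomputable def nx_2 : ℕ := 0x600003d54000228a000254a
noncomputable def nx_3 : ℕ := 0x1f00020058022008005800d001e
noncomputable def nx_4 : ℕ := 0x81040818004040c1020000102
noncomputable def nx_5 : ℕ := 0x40012040811220400000040110
noncomputable def nx_6 : ℕ := 0x840a112804a1120508050050891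
noncomputable def nx_7 : ℕ := 0x2648091240419224008022444803
noncomputable def nx_8 : ℕ := 0x608282040c085081c2040014105
noncomputable def nx_9 : ℕ := 0x3000c0070006018802f00b8053
noncomputable def nx_10 : ℕ := 0x39cf0002d46000256e0003c59
noncomputable def nx_11 : ℕ := 0xf7b9f0e00000001996c91
noncomputable def nx_12 : ℕ := 0x60f3dd3784e1ca
noncomputable def nx : Net := .cons 56 nx_0 <| .cons 28 nx_1 <| .cons 14 nx_2 <| .cons 7 nx_3 <| .cons 4 nx_4 <| .cons 2 nx_5 <| .cons 1 nx_6 <| .cons 2 nx_7 <| .cons 4 nx_8 <| .cons 7 nx_9 <| .cons 14 nx_10 <| .cons 28 nx_11 <| .cons 56 nx_12 <| .nil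
noncomputable def La8 : List Net := nx :: La7
theorem ga8 : Good 112 (H15.RepJ2.ρ).range La8 :=
  Good.word (m := 7) (by norm_num) ga7 (w := [12,15,10,12,15,6,8,7,9,7,2,4,3,0]) (by decide +kernel)
noncomputable def Tnx : H88.Tr := (.leaf (nat_lit 0) (nat_lit 0xfffa2031531309dc8a689314028a0000fff0088ebce4d02059076006f3100000000e79d5a002034c749af631f5b10000ff074492645ea4ecd7b2851b41760000f0ff02a9c95c9f69b45622b17c420000ccca8764fadb47ac25ce41cb63a00000aaa36f1dc6644d45317e2965033f))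
noncomputable def lnx : Lt := ⟨Tnx, nx⟩
theorem onx : OK 112 (H15.RepJ2.ρ).range lnx := OK.of (m := 7) (by norm_num) (H := 128) ga8 (by decide +kernel)
noncomputable def nq_0 : ℕ := 0xe2e5306967b592
noncomputable def nq_1 : ℕ := 0xed43870000000017af840
noncomputable def nq_2 : ℕ := 0x2c8000018c600002d80002cfc
noncomputable def nq_3 : ℕ := 0x14005a01d0044001007600a8004
noncomputable def nq_4 : ℕ := 0xc14180061808200000810800200
noncomputable def nq_5 : ℕ := 0x2000800040000000400000000800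
noncomputable def nq_6 : ℕ := 0x2254a81081020108402112004a01
noncomputable def nq_7 : ℕ := 0x6088102008081024c8120648811
noncomputable def nq_8 : ℕ := 0x2183030e1c10500140860e14201
noncomputable def nq_9 : ℕ := 0x12402c009005c000c07d0114056
noncomputable def nq_10 : ℕ := 0x4db00038ea000007d00007fc
noncomputable def nq_11 : ℕ := 0x8fc9f5e00000001ba1069
noncomputable def nq_12 : ℕ := 0xe2e1698e1e488d
noncomputable def nq : Net := .cons 56 nq_0 <| .cons 28 nq_1 <| .cons 14 nq_2 <| .cons 7 nq_3 <| .cons 4 nq_4 <| .cons 2 nq_5 <| .cons 1 nq_6 <| .cons 2 nq_7 <| .cons 4 nq_8 <| .cons 7 nq_9 <| .cons 14 nq_10 <| .cons 28 nq_11 <| .cons 56 nq_12 <| .nil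
noncomputable def La9 : List Net := nq :: La8
theorem ga9 : Good 112 (H15.RepJ2.ρ).range La9 :=
  Good.word (m := 7) (by norm_num) ga8 (w := [14,12,14,17,14,12,11,9,11,4,7,5,2]) (by decide +kernel)
noncomputable def Tnq : H88.Tr := (.leaf (nat_lit 0) (nat_lit 0xfff470d42918656042024a421abe0000fffa02a9d1e08b9884648db4840000000005320b90920671f71d91cf2d1f0000ff00f04566d610cbfde6139e99900000f0f6c63ebe742865c16d114cd8630000ccccde04c0ecab22691eaa9eeb2d0000aaae1ec45cb7330a672f5501b656))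
noncomputable def lnq : Lt := ⟨Tnq, nq⟩
theorem onq : OK 112 (H15.RepJ2.ρ).range lnq := OK.of (m := 7) (by norm_num) (H := 128) ga9 (by decide +kernel)
noncomputable def nu_0 : ℕ := 0x659d32b7e3d430
noncomputable def nu_1 : ℕ := 0x9c112400000000244a3e8
noncomputable def nu_2 : ℕ := 0x289600002460002d280000488
noncomputable def nu_3 : ℕ := 0x180010014801000900680040040
noncomputable def nu_4 : ℕ := 0x608002001400108043820010300
noncomputable def nu_5 : ℕ := 0x8810040800000008100040100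
noncomputable def nu_6 : ℕ := 0x205081008040152214a150054895
noncomputable def nu_7 : ℕ := 0x64c912244890302040030040180
noncomputable def nu_8 : ℕ := 0x614003001c00108001020210380
noncomputable def nu_9 : ℕ := 0x180014014801000d80330040053
noncomputable def nu_10 : ℕ := 0x289600012c600006b30003688
noncomputable def nu_11 : ℕ := 0x9d112400000000364af9a
noncomputable def nu_12 : ℕ := 0x659d32b7e3d430
noncomputable def nu : Net := .cons 56 nu_0 <| .cons 28 nu_1 <| .cons 14 nu_2 <| .cons 7 nu_3 <| .cons 4 nu_4 <| .cons 2 nu_5 <| .cons 1 nu_6 <| .cons 2 nu_7 <| .cons 4 nu_8 <| .cons 7 nu_9 <| .cons 14 nu_10 <| .cons 28 nu_11 <| .cons 56 nu_12 <| .nil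
noncomputable def La10 : List Net := nu :: La9
theorem ga10 : Good 112 (H15.RepJ2.ρ).range La10 :=
  Good.word (m := 7) (by norm_num) ga9 (w := [18,16,18,11,11,7,9,6,8,4]) (by decide +kernel)
noncomputable def Tnu : H88.Tr := (.leaf (nat_lit 0) (nat_lit 0xfffc24068450085504d060dd1e5d0000fff24302384c72086c2ddd20c1220000000589c0fd1ab060abb232f2596b0000ff032468848974fd9bba0deec0a50000f0f9ebcda024b739181a31b4ab990000cccbaf334f5d4c047b5b21f473000000aaa4a27081c8db1e76a29bf33b96))
noncomputable def lnu : Lt := ⟨Tnu, nu⟩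
theorem onu : OK 112 (H15.RepJ2.ρ).range lnu := OK.of (m := 7) (by norm_num) (H := 128) ga10 (by decide +kernel)
noncomputable def B2 : Subgroup (Equiv.Perm ℕ) := Subgroup.closure {lnx.p, lnq.p, lnu.p}
theorem good2 : Good 112 B2 [nu, nq, nx] := (good_three onx onq onu).1
theorem le2 : B2 ≤ (H15.RepJ2.ρ).range := (good_three onx onq onu).2
theorem sup2 : B2 ≤ supp 112 := (good_three (onx.mono onx.supp) (onq.mono onq.supp) (onu.mono onu.supp)).2
theorem pnx : OK 112 B2 lnx := onx.mono (good2 _ (by simp [lnx])).2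
theorem pnq : OK 112 B2 lnq := onq.mono (good2 _ (by simp [lnq])).2
theorem pnu : OK 112 B2 lnu := onu.mono (good2 _ (by simp [lnu])).2
noncomputable def m3_0 : ℕ := 0x29865a52b18b6c
noncomputable def m3_1 : ℕ := 0x6a3f2b000000003244b46
noncomputable def m3_2 : ℕ := 0x166000029fa0000c4400019fc
noncomputable def m3_3 : ℕ := 0xc0058008006a0058068000006c
noncomputable def m3_4 : ℕ := 0x814084061420004141030c10001
noncomputable def m3_5 : ℕ := 0x2400800200880004080000000000
noncomputable def m3_6 : ℕ := 0x2214a90220480108040942a44201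
noncomputable def m3_7 : ℕ := 0x2408881240c802020c1930604013
noncomputable def m3_8 : ℕ := 0x814103081400300141040c08006
noncomputable def m3_9 : ℕ := 0xd003d01ec05e0138054017404b
noncomputable def m3_10 : ℕ := 0x1c6c000278800011d40002a58
noncomputable def m3_11 : ℕ := 0x63b72ef00000007003b0d
noncomputable def m3_12 : ℕ := 0x298edb2ad4e60f
noncomputable def m3 : Net := .cons 56 m3_0 <| .cons 28 m3_1 <| .cons 14 m3_2 <| .cons 7 m3_3 <| .cons 4 m3_4 <| .cons 2 m3_5 <| .cons 1 m3_6 <| .cons 2 m3_7 <| .cons 4 m3_8 <| .cons 7 m3_9 <| .cons 14 m3_10 <| .cons 28 m3_11 <| .cons 56 m3_12 <| .nil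
noncomputable def Lb3 : List Net := m3 :: [nu, nq, nx]
theorem gb3 : Good 112 B2 Lb3 :=
  Good.word (m := 7) (by norm_num) good2 (w := [5,5,0,2]) (by decide +kernel)
noncomputable def Tm3 : H88.Tr := (.leaf (nat_lit 0) (nat_lit 0xfff068705c10735050d1249669120000fff0664222878ca9a7020969c2480000000d0838af2b696ab10ced550bc50000ff0a0f1f3a6874668bd295ca23890000f0f91a0716d02c33bae54c329fd50000ccc74d2b6a4130d0e7aaaa33f8b50000aaaec45d41a63440b76532c78fde))
noncomputable def lm3 : Lt := ⟨Tm3, m3⟩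
theorem om3 : OK 112 B2 lm3 := OK.of (m := 7) (by norm_num) (H := 128) gb3 (by decide +kernel)
noncomputable def m4_0 : ℕ := 0xd10deb8385b12
noncomputable def m4_1 : ℕ := 0x4c513880000000437a800
noncomputable def m4_2 : ℕ := 0x1a4c00036be000329a000319e
noncomputable def m4_3 : ℕ := 0xc00540088010017004e01a0070
noncomputable def m4_4 : ℕ := 0xc041060a00200040c3020010000
noncomputable def m4_5 : ℕ := 0x2000002000000204488020400100
noncomputable def m4_6 : ℕ := 0x201408428100040844a112814211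
noncomputable def m4_7 : ℕ := 0x48883200409106048920204190
noncomputable def m4_8 : ℕ := 0xc0c304001c004061c2010000302
noncomputable def m4_9 : ℕ := 0x8005700e0050009406701e003b
noncomputable def m4_10 : ℕ := 0xb490001c360003e0e000121c
noncomputable def m4_11 : ℕ := 0x455558d0000000d134d6d
noncomputable def m4_12 : ℕ := 0xd1cb9a8df1edb
noncomputable def m4 : Net := .cons 56 m4_0 <| .cons 28 m4_1 <| .cons 14 m4_2 <| .cons 7 m4_3 <| .cons 4 m4_4 <| .cons 2 m4_5 <| .cons 1 m4_6 <| .cons 2 m4_7 <| .cons 4 m4_8 <| .cons 7 m4_9 <| .cons 14 m4_10 <| .cons 28 m4_11 <| .cons 56 m4_12 <| .nil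
noncomputable def Lb4 : List Net := m4 :: Lb3
theorem gb4 : Good 112 B2 Lb4 :=
  Good.word (m := 7) (by norm_num) gb3 (w := [7,3,7,7,2,6,2,6,3]) (by decide +kernel)
noncomputable def Tm4 : H88.Tr := (.leaf (nat_lit 0) (nat_lit 0xfff4d0db0390459445003790a2c80000fff00120fc0a0065aa381d035c370000000ed56da8ad7e809e0820de61270000ff04c71a3840b6b2dc69a2679d780000f0f2a00e6fdd871a3e3b40d12d4d0000ccce19c8e34426c8f9e38f9d105f0000aaa1103ad66f71829d8afea935e4))
noncomputable def lm4 : Lt := ⟨Tm4, m4⟩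
theorem om4 : OK 112 B2 lm4 := OK.of (m := 7) (by norm_num) (H := 128) gb4 (by decide +kernel)
noncomputable def m5_0 : ℕ := 0xe1fb69e88fc598
noncomputable def m5_1 : ℕ := 0xd31042800000002b4aed2
noncomputable def m5_2 : ℕ := 0x1c18000384c00026b00002500
noncomputable def m5_3 : ℕ := 0x100012010002a01800580020054
noncomputable def m5_4 : ℕ := 0xa1018108080040e100810800100
noncomputable def m5_5 : ℕ := 0x400002044001200009022400000
noncomputable def m5_6 : ℕ := 0x22440940840a9102048842200a01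
noncomputable def m5_7 : ℕ := 0x64890004080122404101200c910
noncomputable def m5_8 : ℕ := 0xa0c20000143870e103000800080
noncomputable def m5_9 : ℕ := 0x12402c001802200c804700b002c
noncomputable def m5_10 : ℕ := 0x38d0000131a00029720001506
noncomputable def m5_11 : ℕ := 0x52ccc9700000003743662
noncomputable def m5_12 : ℕ := 0xe1f23f47d6c74c
noncomputable def m5 : Net := .cons 56 m5_0 <| .cons 28 m5_1 <| .cons 14 m5_2 <| .cons 7 m5_3 <| .cons 4 m5_4 <| .cons 2 m5_5 <| .cons 1 m5_6 <| .cons 2 m5_7 <| .cons 4 m5_8 <| .cons 7 m5_9 <| .cons 14 m5_10 <| .cons 28 m5_11 <| .cons 56 m5_12 <| .nil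
noncomputable def Lb5 : List Net := m5 :: Lb4
theorem gb5 : Good 112 B2 Lb5 :=
  Good.word (m := 7) (by norm_num) gb4 (w := [2,1,3,1,1,3,0]) (by decide +kernel)
noncomputable def Tm5 : H88.Tr := (.leaf (nat_lit 0) (nat_lit 0xfff12106f5534212448212e2883b0000fff896032aa09820aa602c41f5c40000000765d0028aefe87ea207a113b60000ff06e9d4c8eb0270add3dc1530ca0000f0f8f0cd81f65ed15f75083303910000ccca0a5215e2b2d951ed54a9b56f0000aaa3fb46126dd38ce22520df1acb))
noncomputable def lm5 : Lt := ⟨Tm5, m5⟩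
theorem om5 : OK 112 B2 lm5 := OK.of (m := 7) (by norm_num) (H := 128) gb5 (by decide +kernel)
noncomputable def m6_0 : ℕ := 0xfe6d2858390430
noncomputable def m6_1 : ℕ := 0xde82060000000032f18b0
noncomputable def m6_2 : ℕ := 0x1cac000399c0003d200002a46
noncomputable def m6_3 : ℕ := 0x5001c00000440100052004807a
noncomputable def m6_4 : ℕ := 0x200102001418000002800018284
noncomputable def m6_5 : ℕ := 0x408800000800200080000408800
noncomputable def m6_6 : ℕ := 0x2508850204a0420440840810a81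
noncomputable def m6_7 : ℕ := 0x26048130448093004c181040c801
noncomputable def m6_8 : ℕ := 0xa0c102001018704182010c1c186
noncomputable def m6_9 : ℕ := 0xe401e0130031002c05a004801d
noncomputable def m6_10 : ℕ := 0x130f000141a00039bf0000b07
noncomputable def m6_11 : ℕ := 0x2a4c96000000032eddf0
noncomputable def m6_12 : ℕ := 0xfe6832ef154ad5
noncomputable def m6 : Net := .cons 56 m6_0 <| .cons 28 m6_1 <| .cons 14 m6_2 <| .cons 7 m6_3 <| .cons 4 m6_4 <| .cons 2 m6_5 <| .cons 1 m6_6 <| .cons 2 m6_7 <| .cons 4 m6_8 <| .cons 7 m6_9 <| .cons 14 m6_10 <| .cons 28 m6_11 <| .cons 56 m6_12 <| .nil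
noncomputable def Lb6 : List Net := m6 :: Lb5
theorem gb6 : Good 112 B2 Lb6 :=
  Good.word (m := 7) (by norm_num) gb5 (w := [5,2,5,5]) (by decide +kernel)
noncomputable def Tm6 : H88.Tr := (.leaf (nat_lit 0) (nat_lit 0xfff5368000502eb221409a407abb0000fff1d8b8c32588418aa9602a814400000006e020ad8bb6e85ac4a8fb0e170000ff00a85327eac6f16393615540fd0000f0fa6715e7d42350da5e6be048700000ccc14a6d1d66ebb0d54073b817d60000aaa9f60e1be9d2c1f96e85183863))
noncomputable def lm6 : Lt := ⟨Tm6, m6⟩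
theorem om6 : OK 112 B2 lm6 := OK.of (m := 7) (by norm_num) (H := 128) gb6 (by decide +kernel)
noncomputable def m7_0 : ℕ := 0x73efd555e82430
noncomputable def m7_1 : ℕ := 0x4cdc982000000029b11e2
noncomputable def m7_2 : ℕ := 0x55e000214000030e20001818
noncomputable def m7_3 : ℕ := 0x8804c012804c00a802e00b802e
noncomputable def m7_4 : ℕ := 0x60430508040040608080081c203
noncomputable def m7_5 : ℕ := 0x400000004801004400000440000
noncomputable def m7_6 : ℕ := 0x2400012a4401122440810840085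
noncomputable def m7_7 : ℕ := 0x24c903064881306401802408090
noncomputable def m7_8 : ℕ := 0x4082870c0c0060c181800214206
noncomputable def m7_9 : ℕ := 0x9407f0148044002002c00d802d
noncomputable def m7_10 : ℕ := 0x90500025080003b88000198a
noncomputable def m7_11 : ℕ := 0x1f5e5cb00000002da6be8
noncomputable def m7_12 : ℕ := 0x73e743667ba2f1
noncomputable def m7 : Net := .cons 56 m7_0 <| .cons 28 m7_1 <| .cons 14 m7_2 <| .cons 7 m7_3 <| .cons 4 m7_4 <| .cons 2 m7_5 <| .cons 1 m7_6 <| .cons 2 m7_7 <| .cons 4 m7_8 <| .cons 7 m7_9 <| .cons 14 m7_10 <| .cons 28 m7_11 <| .cons 56 m7_12 <| .nil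
noncomputable def Lb7 : List Net := m7 :: Lb6
theorem gb7 : Good 112 B2 Lb7 :=
  Good.word (m := 7) (by norm_num) gb6 (w := [0,3,3,0,3]) (by decide +kernel)
noncomputable def Tm7 : H88.Tr := (.leaf (nat_lit 0) (nat_lit 0xfffef97e5d1022024087200fa0000000fff00483c225bcf4bf08a0704041000000096ff8a22a4d826bfac51c69080000ff05ed0488e3447ea5c78111bbea0000f0f9769d89d318ef4261d43335110000cccd5aa2fd4454e355fd12345a460000aaa7b87692c311a2f333fb424c63))
noncomputable def lm7 : Lt := ⟨Tm7, m7⟩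
theorem om7 : OK 112 B2 lm7 := OK.of (m := 7) (by norm_num) (H := 128) gb7 (by decide +kernel)
noncomputable def D1_0 : ℕ := 0xfffffffffffffffffffffffff
noncomputable def R1_0 : ℕ := 0x4000200310065cd
noncomputable def S1_0 : H88.Tr := (.leaf (nat_lit 0) (nat_lit 0x9f00a0a41fb3b40ace28a7a01000000096eb3911133001296c704249d00000000afc9c8d30bd2c347b772e980))
noncomputable def v1_0 : H88.Lv := ⟨(nat_lit 58), D1_0, 100, [lnx, ln6, ln3, ln7, lnq, lnu, ln5, ln4], [0,4,5,0,1,7,6,5,0], S1_0, true, (nat_lit 0), (nat_lit 0), R1_0, 1, 6, [1]⟩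
noncomputable def D1_1 : ℕ := 0x4ed81de3cd9d75dfd5cbb0ff7
noncomputable def S1_1 : H88.Tr := (.leaf (nat_lit 0) (nat_lit 0x200008300000080400000d000000000484008208c08241804c9a0274000000048880940c49d0541900a20267))
noncomputable def v1_1 : H88.Lv := ⟨(nat_lit 48), D1_1, 63, [ln4, ln6, ln3, ln7, ln5], [0,0,1,3,0,1,2,0,1], S1_1, false, (nat_lit 0), (nat_lit 2), 0, 0, 0, []⟩
noncomputable def D1_2 : ℕ := 0x9818c2c109205115cb30703
noncomputable def S1_2 : H88.Tr := (.leaf (nat_lit 0) (nat_lit 0xc20100000004081040200000000080180000090010010220300))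
noncomputable def v1_2 : H88.Lv := ⟨(nat_lit 27), D1_2, 32, [ln6, ln7, ln5], [0,2,0,1,0,1,0,2], S1_2, false, (nat_lit 0), (nat_lit 2), 0, 0, 0, []⟩
noncomputable def D1_3 : ℕ := 0x2000000020000000000008000
noncomputable def S1_3 : H88.Tr := (.leaf (nat_lit 0) (nat_lit 0))
noncomputable def v1_3 : H88.Lv := ⟨(nat_lit 15), D1_3, 3, [ln7], [0,0], S1_3, false, (nat_lit 2), (nat_lit 1), 0, 0, 0, []⟩
noncomputable def L1 : List H88.Lv := [v1_0, v1_1, v1_2, v1_3]
theorem lok1 : LOK 112 (H15.RepJ2.ρ).range L1 :=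
  (LOK.cons (AOK.cons onx (AOK.cons on6 (AOK.cons on3 (AOK.cons on7 (AOK.cons onq (AOK.cons onu (AOK.cons on5 (AOK.cons on4 AOK.nil))))))))
  (LOK.cons (AOK.cons on4 (AOK.cons on6 (AOK.cons on3 (AOK.cons on7 (AOK.cons on5 AOK.nil)))))
  (LOK.cons (AOK.cons on6 (AOK.cons on7 (AOK.cons on5 AOK.nil)))
  (LOK.cons (AOK.cons on7 AOK.nil)
  LOK.nil))))
noncomputable def V1 : List (List Lt) := [[]]
noncomputable def F1 (X : ℕ) : Bool := search lnx.T (nat_lit 58) X 7 (fin lnx.T (revB L1 []) V1 [62]) L1 [] []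
noncomputable def D2_0 : ℕ := 0xfffffffffffffffffffffffff
noncomputable def R2_0 : ℕ := 0x1000000000099037be
noncomputable def S2_0 : H88.Tr := (.leaf (nat_lit 0) (nat_lit 0x51eadec2149409035b12f3d3800000002bf4ebac819114186c99fda0a0000000dd3ab3d2886d30a7caf946f02))
noncomputable def v2_0 : H88.Lv := ⟨(nat_lit 68), D2_0, 100, [lnq, lnx, lm4, lm6, lm5, lm3, lnu, lm7], [0,1,6,2,3,4,1,2,2], S2_0, true, (nat_lit 0), (nat_lit 0), R2_0, 1, 5, [3,2]⟩
noncomputable def D2_1 : ℕ := 0xbfbfe268766c6746efcf42fb7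
noncomputable def S2_1 : H88.Tr := (.leaf (nat_lit 0) (nat_lit 0x3000020800000000818c00080000000084aa400020482540064040e130000000009ec020064004044c4342c05))
noncomputable def v2_1 : H88.Lv := ⟨(nat_lit 93), D2_1, 63, [lm3, lm5, lm4, lm6, lm7], [0,2,0,1,3,0,2,1], S2_1, false, (nat_lit 0), (nat_lit 1), 0, 0, 0, []⟩
noncomputable def D2_2 : ℕ := 0x25b3800824484142a2cd02817
noncomputable def S2_2 : H88.Tr := (.leaf (nat_lit 0) (nat_lit 0x202000000400000000050000100000000503000000080100a24002812))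
noncomputable def v2_2 : H88.Lv := ⟨(nat_lit 88), D2_2, 32, [lm6, lm5, lm7], [0,1,0,1,0,1,2,0], S2_2, false, (nat_lit 0), (nat_lit 1), 0, 0, 0, []⟩
noncomputable def D2_3 : ℕ := 0x2000800001
noncomputable def S2_3 : H88.Tr := (.leaf (nat_lit 0) (nat_lit 0))
noncomputable def v2_3 : H88.Lv := ⟨(nat_lit 0), D2_3, 3, [lm7], [0,0], S2_3, false, (nat_lit 0), (nat_lit 1), 0, 0, 0, []⟩
noncomputable def L2 : List H88.Lv := [v2_0, v2_1, v2_2, v2_3]
theorem lok2 : LOK 112 B2 L2 :=
  (LOK.cons (AOK.cons pnq (AOK.cons pnx (AOK.cons om4 (AOK.cons om6 (AOK.cons om5 (AOK.cons om3 (AOK.cons pnu (AOK.cons om7 AOK.nil))))))))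
  (LOK.cons (AOK.cons om3 (AOK.cons om5 (AOK.cons om4 (AOK.cons om6 (AOK.cons om7 AOK.nil)))))
  (LOK.cons (AOK.cons om6 (AOK.cons om5 (AOK.cons om7 AOK.nil)))
  (LOK.cons (AOK.cons om7 AOK.nil)
  LOK.nil))))
noncomputable def V2 : List (List Lt) := wds [lnq, lnu] lnq [[],
  [1,0,0,0,0,0]]
theorem vok2 : VOK 112 (H15.RepJ2.ρ).range V2 := VOK.wds (AOK.cons onq (AOK.cons onu AOK.nil)) onq _
noncomputable def F2 (X : ℕ) : Bool := search lnq.T (nat_lit 68) X 7 (fin lnq.T (revB L2 []) V2 [58]) L2 [] []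
def Rels : List (List ℕ) := [[2,2],
  [0,2,1,0,2,1,0,2,1,0,2,1,0,2,1,0,2,1,0,2,1]]
noncomputable def AL : List (ℕ × List Lt) := [(1, [lnu]), (1, [lnu, lnq, lnq, lnq])]
noncomputable def CR (k j : ℕ) : Bool := candRow lnx.T lnq.T lnu.T lnq.T [15,27,48,58] V2 AL [45] Rels k j
noncomputable def ns_0 : ℕ := 0x528ae746634000
noncomputable def ns_1 : ℕ := 0xdfde10000000008f4a278
noncomputable def ns_2 : ℕ := 0x10040003c500003c180000494
noncomputable def ns_3 : ℕ := 0x400120000008008802c0040050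
noncomputable def ns_4 : ℕ := 0x810000060c1000c102800410002
noncomputable def ns_5 : ℕ := 0x100040010220008022000010
noncomputable def ns_6 : ℕ := 0x8002000204a0128548042814810
noncomputable def ns_7 : ℕ := 0x410320481022000992200c013
noncomputable def ns_8 : ℕ := 0xe10080060c1000e102800610202
noncomputable def ns_9 : ℕ := 0x5001200e000801a807d00c0050
noncomputable def ns_10 : ℕ := 0x10940003c520003e1a0000c94
noncomputable def ns_11 : ℕ := 0xdfde10000000008f4a278
noncomputable def ns_12 : ℕ := 0x528ae746634004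
noncomputable def ns : Net := .cons 56 ns_0 <| .cons 28 ns_1 <| .cons 14 ns_2 <| .cons 7 ns_3 <| .cons 4 ns_4 <| .cons 2 ns_5 <| .cons 1 ns_6 <| .cons 2 ns_7 <| .cons 4 ns_8 <| .cons 7 ns_9 <| .cons 14 ns_10 <| .cons 28 ns_11 <| .cons 56 ns_12 <| .nil
noncomputable def lns : Lt := ⟨.leaf 0 0, ns⟩
theorem lb1_0 : lbLv 7 112 v1_0 [v1_1, v1_2, v1_3] = true := by decide +kernel
theorem st1_0 : statLv lnx 7 112 v1_0 [] = true := by decide +kernel
theorem lb1_1 : lbLv 7 112 v1_1 [v1_2, v1_3] = true := by decide +kernel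
theorem st1_1 : statLv lnx 7 112 v1_1 [v1_0.b] = true := by decide +kernel
theorem lb1_2 : lbLv 7 112 v1_2 [v1_3] = true := by decide +kernel
theorem st1_2 : statLv lnx 7 112 v1_2 [v1_1.b, v1_0.b] = true := by decide +kernel
theorem lb1_3 : lbLv 7 112 v1_3 [] = true := by decide +kernel
theorem st1_3 : statLv lnx 7 112 v1_3 [v1_2.b, v1_1.b, v1_0.b] = true := by decide +kernel
theorem s1_0 : F1 (ival 0 112) = true := by decide +kernel
theorem lb2_0 : lbLv 7 112 v2_0 [v2_1, v2_2, v2_3] = true := by decide +kernel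
theorem st2_0 : statLv lnq 7 112 v2_0 [] = true := by decide +kernel
theorem lb2_1 : lbLv 7 112 v2_1 [v2_2, v2_3] = true := by decide +kernel
theorem st2_1 : statLv lnq 7 112 v2_1 [v2_0.b] = true := by decide +kernel
theorem lb2_2 : lbLv 7 112 v2_2 [v2_3] = true := by decide +kernel
theorem st2_2 : statLv lnq 7 112 v2_2 [v2_1.b, v2_0.b] = true := by decide +kernel
theorem lb2_3 : lbLv 7 112 v2_3 [] = true := by decide +kernel
theorem st2_3 : statLv lnq 7 112 v2_3 [v2_2.b, v2_1.b, v2_0.b] = true := by decide +kernel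
theorem s2_0 : F2 (ival 0 112) = true := by decide +kernel
theorem bas : basic 112 7 3 1 1 6 lnx lnq lnu lnq [15,27,48,58] [1] [45] Rels = true := by decide +kernel
theorem c1_0 : allN (fun i => CR 1 (0 + i)) 6 = true := by decide +kernel
theorem vs : lns.r.valid 112 = true := by decide +kernel
theorem e1 : eqN 7 112 [lns, lnx] (List.replicate 1 lnx ++ [lns]) = true := by decide +kernel
theorem e2 : eqN 7 112 [lns, lnq] [lnq, lns] = true := by decide +kernel
theorem e3 : eqN 7 112 [lns, lnu] ([lnu, lnq, lnq, lnq] ++ [lns]) = true := by decide +kernel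
theorem e4 : niChk lnx.T lnq.T lnu.T lnq.T 6 1 [lnu, lnq, lnq, lnq] V2 [45] = true := by decide +kernel
theorem lb1 : LB 7 112 L1 := ⟨lb1_0, ⟨lb1_1, ⟨lb1_2, ⟨lb1_3, trivial⟩⟩⟩⟩
theorem st1 : Stat lnx 7 112 L1 [] := ⟨st1_0, ⟨st1_1, ⟨st1_2, ⟨st1_3, trivial⟩⟩⟩⟩
theorem cov1 : CovX F1 112 := ((CovX.zero F1).step s1_0)
theorem lb2 : LB 7 112 L2 := ⟨lb2_0, ⟨lb2_1, ⟨lb2_2, ⟨lb2_3, trivial⟩⟩⟩⟩
theorem st2 : Stat lnq 7 112 L2 [] := ⟨st2_0, ⟨st2_1, ⟨st2_2, ⟨st2_3, trivial⟩⟩⟩⟩
theorem cov2 : CovX F2 112 := ((CovX.zero F2).step s2_0)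
theorem fin0 : Finite (H4.M2.X) := Nat.finite_of_card_ne_zero (by rw [H4.M2.card]; norm_num)
theorem gen2 : B2 = (H15.RepJ2.ρ).range := by
  have := fin0
  have := finite_range (H15.RepJ2.ρ)
  exact eq_of_lb le2 lok2 lb2 (by rw [card_range (H15.RepJ2.inj), H4.M2.card]; decide +kernel)
theorem hB : (H15.RepJ2.ρ).range ≤ supp 112 := gen2 ▸ sup2
theorem ch1 : Ch 112 L1 (H15.RepJ2.ρ).range := by
  have := fin0
  have := finite_range (H15.RepJ2.ρ)
  exact lb_exact L1 _ lok1 lb1 (by rw [card_range (H15.RepJ2.inj), H4.M2.card]; decide +kernel)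
theorem ch2 : Ch 112 L2 (H15.RepJ2.ρ).range := by
  have := fin0
  have := finite_range (H15.RepJ2.ρ)
  exact lb_exact L2 _ (lok2.mono le2) lb2 (by rw [card_range (H15.RepJ2.inj), H4.M2.card]; decide +kernel)
theorem base : IsBase 112 (H15.RepJ2.ρ).range [15,27,48,58] := ch1.isBase
theorem cert : Cert (H15.RepJ2.ρ) 112 7 3 1 1 6 lnx lnq lnu lnq [15,27,48,58] [1] [45] Rels V2 AL :=
  ⟨H15.RepJ2.inj, by norm_num, by rw [H4.M2.card]; norm_num, base, onx, onq, onu, onq, vok2, gen2.ge,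
   cent_cases (m := 7) (by norm_num) hB ch1 onx (VOK.cons AOK.nil VOK.nil) st1 (by decide +kernel) cov1,
   cent_cases (m := 7) (by norm_num) hB ch2 onq vok2 st2 (by decide +kernel) cov2,
   List.forall_mem_cons.2 ⟨AOK.cons onu AOK.nil, List.forall_mem_cons.2 ⟨(AOK.cons onu (AOK.cons onq (AOK.cons onq (AOK.cons onq AOK.nil)))), fun _ h => absurd h List.not_mem_nil⟩⟩,
   bas, (List.forall_mem_cons.2 ⟨(show CovN (CR 1) 6 from ((CovN.zero _).step c1_0)), (fun _ h => absurd h List.not_mem_nil)⟩)⟩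
theorem out : Nat.card (Cfsg.Out (H4.M2.X)) = 2 := by
  have := fin0
  exact cert.out_two_net (d := 7) (by norm_num) vs e1 e2 e3 e4
end H15.OutJ2
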