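import Cfsg.Agent.H52.RCSpec
import Cfsg.Agent.S0205
import Cfsg.Agent.S0215

/-!
# RC-ZS: the Z*-theorem in `L / Z(L)` (tower RC, S3860)
-/

set_option autoImplicit false
set_option maxHeartbeats 400000

namespace H15.RCZS

open H52.RC Subgroup

universe u

theorem jobZS : JobZS.{u} := by
  intro ka G _ _ L Q qs syl
  obtain ⟨-, -, -, -, -, -, -, k8, -⟩ := ka G
  obtain ⟨⟨perf, simp⟩, -⟩ := id qs
  have zq : Zc L ≤ Q := by
    obtain ⟨k, hk, h⟩ := (k8 L Q syl).2.2 (Zc L) qs.zc inf_le_left
    intro z hz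
    have := h z hz
    rwa [((mem_Zc.1 hz).2 k hk).eq, mul_inv_cancel_right] at this
  have perfS : Group.IsPerfect (L ⧸ center L) :=
    Group.IsPerfect.ofSurjective (QuotientGroup.mk'_surjective (center L))
  have nsol : ¬ Group.IsSolvable (L ⧸ center L) := Group.IsPerfect.not_isSolvable _
  have nodd : ¬ Odd (Nat.card (L ⧸ center L)) := fun h => nsol (Cfsg.Agent.S0205.result h)
  have oddi : Odd (Q.subgroupOf L).index := syl.2.2
  refine ⟨zq, fun qz => nodd ?_, qs.zc, fun d hd dz d2 => ?_⟩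
  · have le : Q.subgroupOf L ≤ center L := fun x hx => mem_center_iff_Zc.2 (qz hx)
    exact oddi.of_dvd_nat (index_dvd_of_le le)
  by_contra hcon
  push Not at hcon
  have : Fact (Nat.Prime 2) := ⟨Nat.prime_two⟩
  have p1 : IsPGroup 2 ((Q.subgroupOf L).map (QuotientGroup.mk' (center L))) :=
    (syl.2.1.comap_subtype (K := L)).map _
  have i1 : ¬ 2 ∣ ((Q.subgroupOf L).map (QuotientGroup.mk' (center L))).index := fun h =>
    (Nat.not_even_iff_odd.2 oddi) (even_iff_two_dvd.2
      (h.trans (index_map_dvd _ (QuotientGroup.mk'_surjective _))))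
  let d' : L := ⟨d, syl.1 hd⟩
  have d1 : (QuotientGroup.mk d' : L ⧸ center L) ≠ 1 := fun h => dz (mk_eq_one_iff.1 h)
  have o2 : orderOf (QuotientGroup.mk d' : L ⧸ center L) = 2 := by
    refine orderOf_eq_prime ?_ d1
    rw [← QuotientGroup.mk_pow]
    exact mk_eq_one_iff.2 d2
  obtain ⟨N, hN, oN, cN⟩ := Cfsg.Agent.S0215.result (p1.toSylow i1) (QuotientGroup.mk d') o2
    ⟨d', hd, rfl⟩ (by
      intro g hg
      obtain ⟨g, rfl⟩ := QuotientGroup.mk_surjective g
      obtain ⟨q, hq, e⟩ := hg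
      have e' : (QuotientGroup.mk q : L ⧸ center L) = QuotientGroup.mk (g * d' * g⁻¹) := e
      have m1 := zq (mem_center_iff_Zc.1 (QuotientGroup.eq.1 e'))
      have m2 : (g : G) * d * (g : G)⁻¹ ∈ Q := by
        have := Q.mul_mem (show (q : G) ∈ Q from hq) m1
        simpa [d'] using this
      have m3 := hcon g g.2 m2
      have e2 : (QuotientGroup.mk d' : L ⧸ center L) = QuotientGroup.mk (g * d' * g⁻¹) :=
        QuotientGroup.eq.2 (mem_center_iff_Zc.2 m3)
      exact e2.symm)
  rcases hN.eq_bot_or_eq_top with rfl | rfl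
  · have c : (QuotientGroup.mk d' : L ⧸ center L) ∈ center (L ⧸ center L) := by
      rw [mem_center_iff]
      intro g
      have := mem_bot.1 (cN g)
      calc g * QuotientGroup.mk d' = (QuotientGroup.mk d' * g * (QuotientGroup.mk d')⁻¹ * g⁻¹) *
          (g * QuotientGroup.mk d') := by rw [this, one_mul]
        _ = QuotientGroup.mk d' * g := by group
    rcases (inferInstance : (center (L ⧸ center L)).Normal).eq_bot_or_eq_top with e | e
    · exact d1 (mem_bot.1 (e ▸ c))
    · refine nsol (Group.isSolvable_of_comm fun x y => ?_)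
      exact (mem_center_iff.1 (e ▸ mem_top y : y ∈ center (L ⧸ center L)) x)
  · exact nodd (by rwa [card_top] at oN)

end H15.RCZS
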