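import Cfsg.Agent.H96.SPGRM
import Cfsg.Agent.H76.SGG2a
import Cfsg.Agent.H83.SPGG2b
import Cfsg.Agent.H98.SpG4
import Cfsg.Agent.H94.SPGLA
import Cfsg.Agent.H21.SPFH
import Cfsg.Agent.H37.SPGFQ
import Cfsg.Agent.H29.SPGLS
import Cfsg.Agent.H71.SpKA
import Cfsg.Agent.H99.SPGKB
import Cfsg.Agent.H92.SpgAB
import Cfsg.Agent.H89.SPMV

/-! STD-SP type I fusion, assembly: `t` is not conjugate to `t a₂`. -/

set_option autoImplicit false

namespace H15.SPG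

open H67.UA hiding Par
open H67.SP
open H86.SPG
open H86.SPI (RO)

universe u

theorem nfa (nk : JobNK.{u}) : AllA.{u} fun n F _ _ _ _ _ _ _ e t =>
    CH e t → RO e t → ¬ Fu e t (xa n F) := by
  intro n F _ _ _ _ _ _ G _ _ e t hB hC ch ro fa
  have fh := H21.SPH.jobFH n F hB
  have fq := H37.SPGFQ.jobFQ n F hB hC
  have la := H94.SPG.jobLA n F hB fh
  have a : H86.SPG.AW e t := aw ch
  obtain ⟨δ, r, h, m⟩ := H96.SPG.jobRM n F G e t hB hC ro
  have k1 := H83.SPG.rT a m 1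
  have k2 : Commute (r 0 0 (H81.SU.rt 1)) (e (xa n F)) :=
    H83.SPG.rQ m _ ((FV.mem_QQ _).2 ⟨ev 1, 0, fh.e1.1, rfl⟩)
  have fb : Fu e t (xb n F) := isConj_iff.2 ⟨_, k1⟩
  have fc : Fu e t (xc n F) := IsConj.trans fa (isConj_iff.2 ⟨r 0 0 (H81.SU.rt 1), by
    rw [map_mul, ← mul_assoc t, ← k1, mul_assoc _ _ (e (xa n F)), k2.inv_left.eq]
    simp only [mul_assoc]⟩)
  have mc := H89.SP.jobMV n F G e t hB hC (H59.SO.CE.b0 ch.toCE) _
    (.inr (.inr ((FR.cr _).2 (IsConj.refl _)))) fc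
  have gq := H76.SGG2a.jobG2a n F G e t hB hC fq ch mc fa fb
  have ex := H98.SpG4.jobG4 n F G e t hB hC fh la a
    (H83.SPG.jobG2b n F G e t hB hC fh fq a δ r h m gq)
  have hn := nk n F G e t hB hC fh a δ r h m
  rcases H92.SpgAB.jobAB n F G e t hB hC fh a δ r h m hn ex
    (H29.SPGL.jobLS n F G e t hB hC fh a δ r h m hn ex) with ka | kb
  · exact H71.SpKA.jobKA n F G e t hB hC fh a δ r h m hn ka
  · exact H99.SPGKB.jobKB n F G e t hB hC fh a δ r h m hn ex kb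

end H15.SPG
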