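/- SQ tower (S4132), job R. -/
import Cfsg.Agent.H30.SQSpec

set_option autoImplicit false
set_option maxHeartbeats 400000

namespace H15.SQ
open H30.SQ

universe u

theorem comm_back {G : Type*} [Group G] {h a ν : G} (e : Commute (h * a * h⁻¹) ν) :
    Commute a (h⁻¹ * ν * h) := by
  show a * (h⁻¹ * ν * h) = h⁻¹ * ν * h * a
  calc a * (h⁻¹ * ν * h) = h⁻¹ * (h * a * h⁻¹ * ν) * h := by group
    _ = h⁻¹ * (ν * (h * a * h⁻¹)) * h := by rw [e.eq]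
    _ = _ := by group

theorem jobR : JobR.{u} := by
  intro G _ _ T U₀ n z ν v H F t ht htz
  obtain ⟨h, e, hT⟩ := (H.cen z F.zc).2 t ht.1 ht.2.symm
  have h2 : h * z * h⁻¹ ∈ WS T z := ⟨hT z F.zc.1 (F.zc.2 t ht.1).symm, isConj_iff.2 ⟨h, rfl⟩⟩
  have h3 : h * z * h⁻¹ ≠ z := fun e' => htz (by
    have := e.trans e'.symm
    simpa using this)
  have h4 : ¬ Commute (h * z * h⁻¹) ν := fun c => h3 (F.sU _ (F.iv _ h2.1 (by
    rw [conj_mul, F.z2, mul_one, mul_inv_cancel]) c) h2.2)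
  have h5 := F.mv _ h2.1 h4
  have h6 : ν * z * ν⁻¹ = z := by rw [(F.zc.2 ν F.νT).eq, mul_inv_cancel_right]
  have h7 : h⁻¹ * z * h = t := by rw [← e]; group
  refine ⟨h⁻¹ * ν * h, ?_, ?_, fun u hu => ?_⟩
  · calc h⁻¹ * ν * h * t * (h⁻¹ * ν * h)⁻¹ = h⁻¹ * (ν * (h * t * h⁻¹) * ν⁻¹) * h := by group
      _ = t := by rw [e, h6, h7]
  · calc h⁻¹ * ν * h * z * (h⁻¹ * ν * h)⁻¹ = h⁻¹ * (ν * (h * z * h⁻¹) * ν⁻¹) * h := by group
      _ = z * (h⁻¹ * z * h) := by rw [h5]; group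
      _ = z * t := by rw [h7]
  · have c1 : Commute u t := (F.cS t ht htz u (F.le hu)).2 (Or.inl hu)
    have c2 : Commute (h * u * h⁻¹) (h * z * h⁻¹) := (F.zc.2 u (F.le hu)).conj h
    rcases (F.cS _ h2 h3 _ (hT u (F.le hu) c1)).1 c2 with c | c
    · exact Or.inl (comm_back (F.νc _ c))
    · rw [conj_mul] at c
      exact Or.inr (comm_back (F.νc _ c))

end H15.SQ
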