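import Cfsg.Agent.H67.SWDef
import Cfsg.Agent.H72.SPFR
import Cfsg.Agent.H59.SOBasic

/-! STD-SP wreath endgame, slot CM: the groups `M_j` are characteristic in `U`. -/

set_option autoImplicit false
set_option linter.unusedSectionVars false
set_option maxHeartbeats 400000

namespace H15.SW

open H67.UA hiding Par
open H67.SP H67.SW H72.SPF
open H67.SA (cm)
open H59.SO (AutOn)
open H64.SG (Cz mem_Cz)

section IP

variable {X : Type} [Group X] [Finite X] {U : Subgroup X} {P Q : X → Prop}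

/-- A property of elements of `U` that is kept by the automorphisms of `U`. -/
def IP (U : Subgroup X) (P : X → Prop) : Prop :=
  (∀ g, P g → g ∈ U) ∧ ∀ θ, AutOn U θ → ∀ g, P g → P (θ g)

theorem IP.surj (h : IP U P) {θ : X → X} (a : AutOn U θ) {g : X} (hg : P g) :
    ∃ g', P g' ∧ θ g' = g := by
  have hm : Set.MapsTo θ {g | P g} {g | P g} := fun g hg => h.2 θ a g hg
  have hi : Set.InjOn θ {g | P g} := a.bij.injOn.mono fun g hg => h.1 g hg
  exact (((Set.toFinite _).injOn_iff_bijOn_of_mapsTo hm).1 hi).surjOn hg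

theorem IP.cen (h : IP U P) : IP U fun g => g ∈ U ∧ ∀ a, P a → a * g = g * a :=
  ⟨fun _ hg => hg.1, fun θ a g hg => ⟨a.bij.mapsTo hg.1, fun b hb => by
    obtain ⟨c, hc, rfl⟩ := h.surj a hb
    rw [← a.mul _ (h.1 c hc) _ hg.1, ← a.mul _ hg.1 _ (h.1 c hc), hg.2 c hc]⟩⟩

theorem IP.cmm (h : IP U P) (h' : IP U Q) : IP U fun g => P g ∧ ∀ a, P a → Q (cm g a) :=
  ⟨fun g hg => h.1 g hg.1, fun θ a g hg => ⟨h.2 θ a g hg.1, fun b hb => by
    obtain ⟨c, hc, rfl⟩ := h.surj a hb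
    rw [← a.cm (h.1 g hg.1) (h.1 c hc)]
    exact h'.2 θ a _ (hg.2 c hc)⟩⟩

theorem IP.and (h : IP U P) (h' : IP U Q) : IP U fun g => P g ∧ Q g :=
  ⟨fun g hg => h.1 g hg.1, fun θ a g hg => ⟨h.2 θ a g hg.1, h'.2 θ a g hg.2⟩⟩

theorem IP.congr (h : IP U P) (e : ∀ g, P g ↔ Q g) : IP U Q :=
  (funext fun g => propext (e g) : P = Q) ▸ h

end IP

variable {n : ℕ} {F : Type} [Field F] [StarRing F] [TrivialStar F] [CharP F 2] [Finite F]
  [Par n F] [Base n F]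

theorem wmono {j l : ℕ} (h : j ≤ l) {v : Vn n F} (hv : Wk j v) : Wk l v :=
  fun i hi => hv i (h.trans hi)

theorem w0 (l : ℕ) : Wk l (0 : Vn n F) := fun _ _ => rfl

/-- If `g` fixes `W_l` pointwise, then `[V, g] ≤ W_l^⊥`. -/
theorem perp_of_fix {l : ℕ} (hl : l ≤ n + 1) {g : XU n F} (h : ∀ v, Wk l v → ac g v = v)
    (v : Vn n F) : Wk (n + 1 - l) (ac g v + v) := (FV.wk_perp l hl _).2 fun w hw => by
  rw [hf_add_left]
  nth_rewrite 1 [← h w hw]
  rw [hf_ac, cc]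

/-- `M_l` fixes `W_l^⊥` pointwise. -/
theorem M_fix {l : ℕ} (hl : l ≤ n + 1) {m : XU n F} (hm : m ∈ Mk n F l) {x : Vn n F}
    (hx' : Wk (n + 1 - l) x) : ac m x = x := by
  refine eq_of_hf fun z => ?_
  have h1 := (FV.wk_perp l hl x).1 hx' _ ((FV.mem_M l m).1 hm (ac m⁻¹ z))
  rw [ac_ac_inv, hf_add_right] at h1
  rw [hf_ac_left]
  linear_combination h1 - hf x z * two0 F

/-- `C_l` -/
def Fx (l : ℕ) (g : XU n F) : Prop := g ∈ UU n F ∧ ∀ v, Wk l v → ac g v = v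

theorem Fx.mono {j l : ℕ} (h : j ≤ l) {g : XU n F} (hg : Fx l g) : Fx j g :=
  ⟨hg.1, fun v hv => hg.2 v (wmono h hv)⟩

theorem fix_comm {l : ℕ} (hl : l ≤ n + 1) {g m : XU n F} (h : ∀ v, Wk l v → ac g v = v)
    (hm : m ∈ Mk n F l) : m * g = g * m := ac_ext fun v => by
  have h1 := h _ ((FV.mem_M l m).1 hm v)
  have h2 := M_fix hl hm (perp_of_fix hl h v)
  rw [ac_add] at h1 h2
  rw [ac_mul, ac_mul, mv h1, mv h2]
  abel

theorem Q_Fx {l : ℕ} (hl : 2 * l ≤ n + 1) {g : XU n F} (hg : g ∈ Qk n F l) : Fx l g := by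
  obtain ⟨h1, h2⟩ := (FV.mem_Qk l hl g).1 hg
  refine ⟨(FV.mem_U g).2 fun i v hv => ?_, h1⟩
  by_cases a : i + 1 ≤ l
  · rw [h1 v (wmono a hv), v_add_self]; exact w0 i
  by_cases b : i + 1 ≤ n + 1 - l
  · exact wmono (by omega) (h2 v (wmono b hv))
  · exact wmono (by omega) (perp_of_fix (by omega) h1 v)

theorem M_Fx {l : ℕ} (hl : 2 * l ≤ n + 1) {g : XU n F} (hg : g ∈ Mk n F l) : Fx l g :=
  Q_Fx hl ((FV.mem_Qk l hl g).2 ⟨fun _ hv => M_fix (by omega) hg (wmono (by omega) hv),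
    fun v _ => (FV.mem_M l g).1 hg v⟩)

theorem E_M {l : ℕ} (hl : 2 * l ≤ n + 1) {u x : Vn n F} (hu : Wk l u) (hx' : Wk l x) (c : F) :
    EE u x c ∈ Mk n F l := (FV.mem_M l _).2 fun v => by
  rw [aE (wperp hx' hu (by omega)), show ∀ a b c d : Vn n F, a + b + c + d + a = b + c + d + (a + a)
    from fun a b c d => by abel, v_add_self, add_zero]
  exact wadd (wadd (wsm hu _) (wsm hx' _)) (wsm hu _)

theorem fix_of_T {g : XU n F} {u : Vn n F} (h : TT u * g = g * TT u) : ac g u = u := by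
  by_cases hu : u = 0
  · rw [hu, ac_zero]
  · exact mem_Stab.1 (cz u 1 hu one_ne_zero ▸ mem_Cz.2 h)

/-- An element that fixes `e₀`, `e₁` and commutes with `EE e_i x 0` fixes `x`. -/
theorem fix_of_E {g : XU n F} {x : Vn n F} (g0 : ac g (ev 0) = ev 0) (g1 : ac g (ev 1) = ev 1)
    (p0 : hf x (ev 0) = 0) (p1 : hf x (ev 1) = 0)
    (c0 : EE (ev 0) x 0 * g = g * EE (ev 0) x 0) (c1 : EE (ev 1) x 0 * g = g * EE (ev 1) x 0) :
    ac g x = x := by
  have key : ∀ u : Vn n F, u ≠ 0 → ac g u = u → hf x u = 0 → EE u x 0 * g = g * EE u x 0 →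
      ∃ a : F, ac g x + x = a • u := fun u hu gu p c => by
    have e := jE p 0 g
    rw [← c, mul_inv_cancel_right, gu] at e
    exact iE hu (pS (mem_Stab.2 gu) p) p e.symm
  obtain ⟨a, ha⟩ := key _ (ev_ne 0) g0 p0 c0
  obtain ⟨b, hb⟩ := key _ (ev_ne 1) g1 p1 c1
  have := (li01 (n := n) a b (by rw [← ha, ← hb, v_add_self])).1
  rw [mv ha, this, zero_smul, add_zero]

theorem we0 {l : ℕ} (h : 2 ≤ l) : Wk l (ev 0 : Vn n F) := wev (by rw [Fin.val_zero]; omega)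
theorem we1 {l : ℕ} (h : 2 ≤ l) : Wk l (ev 1 : Vn n F) := wev (by rw [v1 (F := F)]; omega)

theorem C_iff {l : ℕ} (hl : 2 * l ≤ n + 1) (g : XU n F) :
    (g ∈ UU n F ∧ ∀ a, a ∈ Mk n F l → a * g = g * a) ↔ Fx l g :=
  ⟨fun h => ⟨h.1, fun _ hv => fix_of_T (h.2 _ (E_M hl hv (w0 l) 1))⟩,
    fun h => ⟨h.1, fun _ ha => fix_comm (by omega) h.2 ha⟩⟩

theorem M_iff {l : ℕ} (h2 : 2 ≤ l) (hl : 2 * l ≤ n + 1) (g : XU n F) :
    (Fx l g ∧ g ∈ UU n F ∧ ∀ a, Fx l a → a * g = g * a) ↔ g ∈ Mk n F l := by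
  refine ⟨fun ⟨h, _, h'⟩ => (FV.mem_M l g).2 fun v => ?_, fun h => ⟨M_Fx hl h, (M_Fx hl h).1,
    fun a ha => (fix_comm (by omega) ha.2 h).symm⟩⟩
  have := perp_of_fix (l := n + 1 - l) (by omega) (g := g) (fun x hx' =>
    fix_of_E (h.2 _ (we0 h2)) (h.2 _ (we1 h2)) (wperp hx' (we0 h2) (by omega))
      (wperp hx' (we1 h2) (by omega)) (h' _ (Q_Fx hl (FV.EE_Q l hl _ _ _ (we0 h2) hx')))
      (h' _ (Q_Fx hl (FV.EE_Q l hl _ _ _ (we1 h2) hx')))) v
  rwa [show n + 1 - (n + 1 - l) = l by omega] at this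

/-- `Y_j` -/
def Yj (j : ℕ) (g : XU n F) : Prop := Fx j g ∧ ∀ a, Fx j a → cm g a ∈ Mk n F j

theorem Y_M {j : ℕ} (h2 : 2 ≤ j) (hj : 2 * (j + 1) ≤ n + 1) {g : XU n F} (h : Yj j g) :
    g ∈ Mk n F (j + 1) := by
  have s1 : ∀ x, Wk (n + 1 - j) x → Wk j (ac g x + x) := fun x hx' => by
    have p : hf x (ev 0) = 0 := wperp hx' (we0 h2) (by omega)
    have g0 := mem_Stab.2 (h.1.2 _ (we0 h2))
    have p' : hf (ac g x + x) (ev 0) = 0 := by rw [hf_add_left, pS g0 p, p, add_zero]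
    have k := h.2 _ (Q_Fx (by omega) (FV.EE_Q j (by omega) _ _ 0 (we0 h2) hx'))
    have e : cm g (EE (ev 0) x 0) = EE (ev 0) (ac g x + x) (hf x (ac g x)) := cmE g0 p 0
    obtain ⟨z, hz⟩ := ex1 (ev_ne (K := F) (0 : Fin (n + 1)))
    have k' := (FV.mem_M j _).1 (e ▸ k) z
    rw [aE p', hz, one_smul] at k'
    have := wadd (wadd k' (wsm (we0 h2) (hf z (ac g x + x)))) (wsm (we0 h2) (hf x (ac g x) * 1))
    rwa [show ∀ a b c d : Vn n F, a + b + c + d + a + b + d = c + (a + b + d + (a + b + d))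
      from fun a b c d => by abel, v_add_self, add_zero] at this
  have s2 : ∀ s, Fx j s → ∀ v, Wk j (ac s (ac g v + v) + (ac g v + v)) := fun s hs' v => by
    have k1 := (FV.mem_M j _).1 (h.2 s hs') (ac s (ac g v))
    rw [H67.SA.cm, ac_mul, ac_mul, ac_mul, ac_inv_ac, ac_inv_ac] at k1
    have k2 := s1 _ (perp_of_fix (by omega) hs'.2 v)
    have := wadd k1 k2
    rw [ac_add] at this ⊢
    rwa [show ∀ a b c d e : Vn n F, a + b + (a + c + (d + e)) = b + d + (c + e) + (a + a)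
      from fun a b c d e => by abel, v_add_self, add_zero] at this
  refine (FV.mem_M _ g).2 fun v => ?_
  let i : Fin (n + 1) := ⟨j, by omega⟩
  have wi : Wk (j + 1) (ev i : Vn n F) := wev (Nat.lt_succ_self j)
  have s3 : ∀ x c, Wk (n + 1 - (j + 1)) x → ∀ y, y = ac g v + v →
      hf y x + hf y (ev i) * x i + c * hf y (ev i) = 0 := fun x c hx' y hy => by
    have := s2 _ ((Q_Fx hj (FV.EE_Q _ hj _ _ c wi hx')).mono (Nat.le_succ j)) v i le_rfl
    rw [← hy, aE (wperp hx' wi (by omega))] at this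
    simp only [Pi.add_apply, Pi.smul_apply, smul_eq_mul, ev_apply, if_true, mul_one] at this
    linear_combination this - y i * two0 F
  have s4 : hf (ac g v + v) (ev i) = 0 := by simpa using s3 0 1 (w0 _) _ rfl
  have := (FV.wk_perp (n + 1 - (j + 1)) (by omega) (ac g v + v)).2 fun x hx' => by
    simpa [s4] using s3 x 0 hx' _ rfl
  rwa [show n + 1 - (n + 1 - (j + 1)) = j + 1 by omega] at this

theorem Y_iff {j : ℕ} (h2 : 2 ≤ j) (hj : 2 * (j + 1) ≤ n + 1) (g : XU n F) :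
    (g ∈ UU n F ∧ ∀ a, Yj j a → a * g = g * a) ↔ Fx (j + 1) g := by
  refine ⟨fun h => ⟨h.1, fun v hv => ?_⟩,
    fun h => ⟨h.1, fun a ha => fix_comm (by omega) h.2 (Y_M h2 hj ha)⟩⟩
  have f1 : Fx j g := (C_iff (by omega) g).1 ⟨h.1, fun a ha => h.2 a ⟨M_Fx (by omega) ha,
    fun s hs' => by
      rw [H67.SA.cm, fix_comm (by omega) hs'.2 ha, mul_inv_cancel_right, mul_inv_cancel]
      exact one_mem _⟩⟩
  let i : Fin (n + 1) := ⟨j, by omega⟩
  have wi : Wk (j + 1) (ev i : Vn n F) := wev (Nat.lt_succ_self j)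
  have y1 : ∀ u : Vn n F, Wk j u → Yj j (EE u (ev i) 0) := fun u hu => by
    have p : hf (ev i) u = 0 := wperp wi hu (by omega)
    refine ⟨(M_Fx hj (E_M hj (wmono (Nat.le_succ j) hu) wi 0)).mono (Nat.le_succ j),
      fun s hs' => ?_⟩
    have su := hs'.2 u hu
    rw [H67.SA.cm, inE p, mul_assoc, mul_assoc, ← mul_assoc s, jE p, su,
      mE' p (pS (mem_Stab.2 su) p), add_comm (ev i)]
    exact E_M (by omega) hu ((FV.mem_U s).1 hs'.1 j _ wi) _
  have gi : ac g (ev i) = ev i := fix_of_E (f1.2 _ (we0 h2)) (f1.2 _ (we1 h2))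
    (wperp wi (we0 h2) (by omega)) (wperp wi (we1 h2) (by omega)) (h.2 _ (y1 _ (we0 h2)))
    (h.2 _ (y1 _ (we1 h2)))
  have wv : Wk j (v + v i • ev i) := fun l hl => by
    rw [Pi.add_apply, Pi.smul_apply, ev_apply, smul_eq_mul]
    split_ifs with e
    · rw [e, mul_one, cc]
    · rw [hv l (Nat.succ_le_of_lt (lt_of_le_of_ne hl fun x => e (Fin.ext x.symm))), mul_zero,
        add_zero]
  have := f1.2 _ wv
  rwa [ac_add, ac_smul, gi, add_left_inj] at this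

theorem jobCM : JobCM := by
  intro n F _ _ _ _ _ _ _ _ _ c2 j h2 hk
  have : Finite (XU n F) := inferInstance
  have ip : ∀ l, 2 * l ≤ n + 1 → Ch (UU n F) (Mk n F l) → IP (UU n F) (· ∈ Mk n F l) :=
    fun l hl h => ⟨fun _ hg => (M_Fx hl hg).1, h⟩
  induction j, h2 using Nat.le_induction with
  | base => exact c2.2.2
  | succ j h2 ih =>
    have hj : 2 * (j + 1) ≤ n + 1 := by unfold kk at hk; omega
    have i1 := ip j (by omega) (ih (by omega))
    have i2 := i1.cen.congr (C_iff (by omega))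
    have i3 : IP (UU n F) (Yj j) := i2.cmm i1
    have i4 := i3.cen.congr (Y_iff h2 hj)
    exact ((i4.and i4.cen).congr (M_iff (by omega) hj)).2

end H15.SW
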