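import Cfsg.Agent.H65.U4Spec1
import Cfsg.Agent.H35.MSKit

/-! Tower U42 (S3138), slot B12: the checks in the 2-group of the table `T10`. -/

set_option autoImplicit false
set_option maxHeartbeats 400000
set_option maxRecDepth 100000

namespace H15.U4

open Subgroup Cfsg H98 H1.Gold H31.S2 H85.FZ H35.CM H65.U4

/-- conjugate by one of the words `ps` -/
def cjb (T : Tb) (ps : List (List ℕ)) (u v : List ℕ) : Bool := ps.any fun p => hit T (iF T p) u v

/-- `ω₀` and the mixed involutions -/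
def Nw : List (List ℕ) := [7, 6, 5, 4, 3, 2] :: [2, 4, 6].flatMap fun i =>
  ([3, 5, 7].filter fun j => j != i + 1).flatMap fun j => [[], [0], [1], [1, 0]].map fun v => i :: j :: v

def t0 (c : List ℕ) : Bool := c.all (· < 9) && al c == 0 && be c == 0

/-- a nontrivial element of `T0` -/
def inT0 (T : Tb) (w : List ℕ) : Bool := t0 (T.col w) && !T.eqv w []

def bad (T : Tb) (ps : List (List ℕ)) (η w : List ℕ) : Bool :=
  T.same w [] || inT0 T (η ++ w) || ps.any fun p => (iF T p w).any fun c =>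
    T.same c η || T.same c (η ++ w) || Nw.any fun n => T.same c n

def chk1 (T : Tb) (ps : List (List ℕ)) (η : List ℕ) (F : List (List ℕ)) : Bool :=
  (subs 10).all fun w => !(al w == be w) || !T.eqv (w ++ w) [] || !T.eqv (η ++ w) (w ++ η) ||
    F.elem w || bad T ps η w

def inF (T : Tb) (F : List (List ℕ)) (w : List ℕ) : Bool :=
  F.elem (T.col w) || !Tb.nf T.n (T.col w)

def chk2 (T : Tb) (F : List (List ℕ)) : Bool :=
  F.all fun f => F.all fun g => !inF T F (f ++ g) || F.all fun h =>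
    !inF T F (f ++ h) || !inF T F (g ++ h) || !inF T F (f ++ g ++ h)

/-- new letters: `T0`, `y`, `p₁ c₂`, `p₁` -/
def ws : List (List ℕ) := [[0], [1], [2, 4], [2, 6], [3, 5], [3, 7], [8], [9], [2, 5], [2]]
def bk : List (List ℕ) := [[0], [1], [9], [9, 8, 4], [9, 2], [9, 8], [9, 3], [9, 8, 5, 4], [6], [7]]

def Tn (ε₁ ε₂ : Bool) : Tb :=
  tb 10 [[],[],[],[],[[],[],[2,1,0],[3,0]],[[],[],[2,0],[3,1]],[[1],[0],[],[3,2],[],[5,4]],
    [[],[],[4],[5],[2],[3],cond ε₂ [6,1,0] []],[[],[],[2,1],[],[4,0],[5,0],[6,4,2,1],[7,4,2,1]],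
    [[],[],[],[],[4,0],[5,0],[6,2],[8,7,2]]] [[],[],[],[],[],[],[],cond ε₁ [1,0] []]
def Tm (ε₁ ε₂ : Bool) : Tb := { Tn ε₁ ε₂ with n := 9 }

def chk0 (T : Tb) (ps reps : List (List ℕ)) : Bool :=
  (subs 8).all fun w => !T.eqv (sb ws w ++ sb ws w) [] || T.same (sb ws w) [] || inT0 T (sb ws w) ||
    reps.any (cjb T ps (sb ws w))

def p0 : List (List ℕ) := [[],[3,2],[5,3],[6,2],[6,3],[7,2],[7,3],[7,6],[4,2],[4,3],[5,2],[5,4],
  [6,4],[6,5],[7,4],[7,5],[0]]
def p1 : List (List ℕ) := [[],[2],[4],[6],[6,4,2],[6,4,3],[6,5,2],[6,5,3]]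
def p2 : List (List ℕ) := [[],[6,3,2],[2],[3],[2,0],[3,0],[6,5,3]]

/-- representatives, candidates, conjugating words -/
def dat : Bool → Bool → List (List ℕ × List (List ℕ) × List (List ℕ))
  | false, false => [([9], [[0],[1],[1,0],[8],[8,1,0],[8,7,6,5,4,3,2,1,0],[8,7,6,5,4,3,2],
      [9,8,7,6,5,4,3,2],[9,8,7,6,5,4,3,2,1,0]], p1),
      ([9,8], [[1,0],[8],[8,1,0],[8,5,4,3,2,0],[8,5,4,3,2,1],[8,7,6,0],[8,7,6,1],[8,7,6,5,4,3,2,1,0],
      [8,7,6,5,4,3,2],[9,7,6,0],[9,7,6,1],[9,7,6,5,4,3,2,1,0],[9,7,6,5,4,3,2]], p2)]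
  | false, true => [([9], [[0],[1],[1,0],[8,5,4,3,2,0],[8,5,4,3,2,1],[8,7,6,0],[8,7,6,1],[9,8,7,6,0],
      [9,8,7,6,1]], p1),
      ([9,8,1], [[1,0],[8],[8,1,0],[8,5,4,3,2,0],[8,5,4,3,2,1],[8,7,6,0],[8,7,6,1],[8,7,6,5,4,3,2,1,0],
      [8,7,6,5,4,3,2],[9,7,6],[9,7,6,1,0],[9,7,6,5,4,3,2,1],[9,7,6,5,4,3,2,0]], p2)]
  | true, false => [([9,8,0], [[1,0]], p2)]
  | true, true => [([9,8,1,0], [[1,0]], p2)]

def chkA (ε₁ ε₂ : Bool) : Bool := chk0 (H65.U4.T10 ε₁ ε₂) p0 ((dat ε₁ ε₂).map (·.1))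
def chkB (ε₁ ε₂ : Bool) : Bool := (dat ε₁ ε₂).all fun d =>
  chk1 (H65.U4.T10 ε₁ ε₂) d.2.2 d.1 d.2.1 && chk2 (H65.U4.T10 ε₁ ε₂) d.2.1

theorem cA00 : chkA false false = true := by decide +kernel
theorem cA01 : chkA false true = true := by decide +kernel
theorem cA10 : chkA true false = true := by decide +kernel
theorem cA11 : chkA true true = true := by decide +kernel
theorem cB00 : chkB false false = true := by decide +kernel
theorem cB01 : chkB false true = true := by decide +kernel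
theorem cB10 : chkB true false = true := by decide +kernel
theorem cB11 : chkB true true = true := by decide +kernel

theorem cA (ε₁ ε₂ : Bool) : chkA ε₁ ε₂ = true := by
  cases ε₁ <;> cases ε₂
  exacts [cA00, cA01, cA10, cA11]

theorem cB (ε₁ ε₂ : Bool) : chkB ε₁ ε₂ = true := by
  cases ε₁ <;> cases ε₂
  exacts [cB00, cB01, cB10, cB11]

end H15.U4
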